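import Mathlib
import Cfsg.Agent.ClassificationK.SymplStructure

/-!
# 2-groups of symplectic type with centre of order 4 (S1920, helper738)

`sym` : `[Q, Q] ≤ <z>` and `x ^ 2 ∈ <z>` (`z` the involution of `Z(Q)`).
-/

set_option autoImplicit false

open Subgroup

namespace Cfsg.Agent.H738.C3.Sym

open Cfsg.Agent.ClassificationK.SymplStructure

variable {Q : Type*} [Group Q] [Finite Q] {K R : Subgroup Q} {z : Q}

theorem pow4 {Q : Type*} [Group Q] (x : Q) : x ^ 4 = x * x * (x * x) := by
  simp only [pow_succ, pow_zero, one_mul, mul_assoc]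

/-- the subgroup `{k ∈ K | k ^ 4 = 1}` -/
theorem four_mul (h : KR K R z) (hzz : z * z = 1) (hzc : ∀ x : Q, z * x = x * z) {x y : Q} (hx : x ∈ K) (hy : y ∈ K)
    (hx4 : x * x * (x * x) = 1) (hy4 : y * y * (y * y) = 1) : x * y * (x * y) * (x * y * (x * y)) = 1 := by
  have e1 : x * y * (x * y) = x * x * (y * y) ∨ x * y * (x * y) = x * x * (y * y) * z := by
    rcases h.comm y hy x hx with h1 | h1
    · left
      calc x * y * (x * y) = x * (y * x) * y := by group
        _ = x * (x * y) * y := by rw [h1]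
        _ = x * x * (y * y) := by group
    · right
      calc x * y * (x * y) = x * (y * x) * y := by group
        _ = x * (x * y * z) * y := by rw [h1]
        _ = x * x * y * (z * y) := by group
        _ = x * x * y * (y * z) := by rw [hzc]
        _ = x * x * (y * y) * z := by group
  have hxx := h.sq x hx
  have hyy := h.sq y hy
  have hc : (x * x) * (y * y) = (y * y) * (x * x) := by
    have h1 := ((h.mem_K (y * y)).1 (h.le hyy)) (x * x) hxx
    exact h1
  have e2 : x * x * (y * y) * (x * x * (y * y)) = 1 := by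
    calc x * x * (y * y) * (x * x * (y * y)) = x * x * ((y * y) * (x * x)) * (y * y) := by group
      _ = x * x * ((x * x) * (y * y)) * (y * y) := by rw [hc]
      _ = (x * x * (x * x)) * (y * y * (y * y)) := by group
      _ = 1 := by rw [hx4, hy4, mul_one]
  rcases e1 with e1 | e1
  · rw [e1]; exact e2
  · rw [e1]
    calc x * x * (y * y) * z * (x * x * (y * y) * z) = x * x * (y * y) * (z * (x * x * (y * y))) * z := by group
      _ = x * x * (y * y) * ((x * x * (y * y)) * z) * z := by rw [hzc]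
      _ = x * x * (y * y) * (x * x * (y * y)) * (z * z) := by group
      _ = 1 := by rw [e2, hzz, mul_one]

/-- in a cyclic group the elements with `x ^ 4 = 1` are in the subgroup of order 4 -/
theorem mem_of_four {R Z : Subgroup Q} (hc : IsCyclic R) (hZ : Z ≤ R) (h4 : Nat.card Z = 4) {x : Q} (hx : x ∈ R)
    (hx4 : x ^ 4 = 1) : x ∈ Z := by
  classical
  have := Fintype.ofFinite R
  have h1 : (Finset.univ.filter (fun a : R => a ^ 4 = 1)).card ≤ 4 := IsCyclic.card_pow_eq_one_le (by norm_num)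
  let f : Z → R := fun a => ⟨a, hZ a.2⟩
  have hf : Function.Injective f := fun a b hab => Subtype.ext (congrArg (fun r : R => (r : Q)) hab)
  have := Fintype.ofFinite Z
  have h2 : (Finset.univ.image f) ⊆ Finset.univ.filter (fun a : R => a ^ 4 = 1) := by
    intro r hr
    rw [Finset.mem_image] at hr
    obtain ⟨a, -, rfl⟩ := hr
    rw [Finset.mem_filter]
    refine ⟨Finset.mem_univ _, ?_⟩
    have h3 : a ^ 4 = 1 := by rw [← h4]; exact pow_card_eq_one'
    have h4 : (a : Q) ^ 4 = 1 := congrArg Subtype.val h3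
    exact Subtype.ext h4
  have h3 : (Finset.univ.image f).card = 4 := by
    rw [Finset.card_image_of_injective _ hf, Finset.card_univ, ← Nat.card_eq_fintype_card, h4]
  have h4' := Finset.eq_of_subset_of_card_le h2 (by rw [h3]; exact h1)
  have h5 : (⟨x, hx⟩ : R) ∈ Finset.univ.filter (fun a : R => a ^ 4 = 1) := by
    rw [Finset.mem_filter]
    exact ⟨Finset.mem_univ _, Subtype.ext hx4⟩
  rw [← h4', Finset.mem_image] at h5
  obtain ⟨a, -, ha⟩ := h5
  have h6 : (a : Q) = x := congrArg (fun r : R => (r : Q)) ha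
  rw [← h6]
  exact a.2

theorem top_of (hQ : Cfsg.IsOfSymplecticType Q) (hZ : Nat.card (center Q) = 4) (hz : orderOf z = 2)
    (hzc : z ∈ center Q) (h : KR K R z) : ∀ y : Q, y ∈ K := by
  classical
  have : Fact (Nat.Prime 2) := ⟨Nat.prime_two⟩
  by_contra hcon
  push Not at hcon
  have hzz : z * z = 1 := h.zz hz
  have hz1 : z ≠ 1 := by
    rintro rfl
    rw [orderOf_one] at hz
    omega
  have hzcc : ∀ x : Q, z * x = x * z := fun x => (mem_center_iff.1 hzc x).symm
  have hZR : center Q ≤ R := fun x hx => h.cent x fun y _ => mem_center_iff.1 hx y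
  have hR4 : 4 ≤ Nat.card R := by
    rw [← hZ]
    exact Nat.card_le_card_of_injective (fun a : center Q => (⟨a, hZR a.2⟩ : R))
      (fun a b hab => Subtype.ext (congrArg (fun r : R => (r : Q)) hab))
  -- `Ω₂(R) = Z(Q)`
  have hfour : ∀ x ∈ R, x * x * (x * x) = 1 → ∀ q : Q, x * q = q * x := by
    intro x hx h4 q
    have h5 : x ^ 4 = 1 := by rw [pow4, h4]
    exact (mem_center_iff.1 (mem_of_four h.cyc hZR hZ hx h5) q).symm
  have hRn : R.Normal := by
    have := h.charR
    infer_instance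
  -- `y ∉ K`, `y² ∈ K`
  have hKn : K.Normal := by
    have := h.charK
    infer_instance
  obtain ⟨y, hyK, hyy⟩ : ∃ y : Q, y ∉ K ∧ y * y ∈ K := by
    obtain ⟨x, hx⟩ := hcon
    obtain ⟨k, hk⟩ := hQ.1 x
    -- the last power outside `K`
    have hP : ∃ n, x ^ 2 ^ n ∈ K := ⟨k, by rw [hk]; exact one_mem _⟩
    have h0 : Nat.find hP ≠ 0 := by
      intro h0
      have := Nat.find_spec hP
      rw [h0, pow_zero, pow_one] at this
      exact hx this
    refine ⟨x ^ 2 ^ (Nat.find hP - 1), Nat.find_min hP (by omega), ?_⟩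
    have h1 := Nat.find_spec hP
    rw [← pow_add, ← two_mul, ← pow_succ']
    rwa [Nat.sub_add_cancel (Nat.one_le_iff_ne_zero.2 h0)]
  obtain ⟨c, hc, hgen⟩ := h.exists_gen
  -- `y c y⁻¹ = c z`
  have hyc : y * c * y⁻¹ = c * z := by
    have h1 : y * c * y⁻¹ ∈ R := hRn.conj_mem c hc y
    have h2 : y * (y * c * y⁻¹) * y⁻¹ = c := by
      have h3 := (h.mem_K (y * y)).1 hyy c hc
      calc y * (y * c * y⁻¹) * y⁻¹ = (y * y) * c * (y * y)⁻¹ := by group
        _ = c * (y * y) * (y * y)⁻¹ := by rw [h3]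
        _ = c := by group
    set t := y * c * y⁻¹ * c⁻¹ with ht
    have htR : t ∈ R := mul_mem h1 (inv_mem hc)
    have h3 : y * t * y⁻¹ = t⁻¹ := by
      calc y * t * y⁻¹ = (y * (y * c * y⁻¹) * y⁻¹) * (y * c * y⁻¹)⁻¹ := by rw [ht]; group
        _ = c * (y * c * y⁻¹)⁻¹ := by rw [h2]
        _ = t⁻¹ := by rw [ht]; group
    -- `t² = 1`
    have h4 : t * t = 1 := by
      by_contra h5
      -- a power of `t` of order 4
      have hP : ∃ n, t ^ 2 ^ n * t ^ 2 ^ n * (t ^ 2 ^ n * t ^ 2 ^ n) = 1 := by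
        obtain ⟨k, hk⟩ := hQ.1 t
        exact ⟨k, by rw [hk]; simp⟩
      set n := Nat.find hP with hn
      have h6 := Nat.find_spec hP
      set u := t ^ 2 ^ n with hu
      have huR : u ∈ R := pow_mem htR _
      have h7 : u * u ≠ 1 := by
        intro h8
        rcases Nat.eq_zero_or_pos n with h9 | h9
        · rw [hu, h9, pow_zero, pow_one] at h8
          exact h5 h8
        · have h10 := Nat.find_min hP (m := n - 1) (by omega)
          apply h10
          have h11 : t ^ 2 ^ (n - 1) * t ^ 2 ^ (n - 1) = u := by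
            rw [hu, ← pow_add, ← two_mul, ← pow_succ', Nat.sub_add_cancel h9]
          rw [h11]
          exact h8
      have h8 : y * u * y⁻¹ = u⁻¹ := by
        rw [hu, ← conj_pow, h3, inv_pow]
      have h9 := hfour u huR h6 y
      rw [← h9, mul_inv_cancel_right] at h8
      apply h7
      exact mul_eq_one_iff_eq_inv.2 h8
    rcases h.uniq t htR h4 with h5 | h5
    · exfalso
      apply hyK
      rw [h.mem_K]
      intro r hr
      obtain ⟨i, rfl⟩ := hgen r hr
      have h6 : y * c = c * y := by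
        rw [ht, mul_inv_eq_one, mul_inv_eq_iff_eq_mul] at h5
        exact h5
      exact ((show Commute y c from h6).zpow_right i).symm
    · rw [ht, mul_inv_eq_iff_eq_mul] at h5
      rw [h5, hzcc]
  -- the action of `y` on `R`
  have hyR : ∀ {v : Q}, v * c * v⁻¹ = c * z → ∀ r ∈ R, v * r * v⁻¹ = r ∨ v * r * v⁻¹ = r * z := by
    intro v hv r hr
    obtain ⟨i, rfl⟩ := hgen r hr
    have h1 : v * c ^ i * v⁻¹ = c ^ i * z ^ i := by
      rw [← conj_zpow, hv, (show Commute c z from (hzcc c).symm).mul_zpow]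
    rw [h1]
    rcases Int.even_or_odd i with ⟨j, rfl⟩ | ⟨j, rfl⟩
    · left
      have : z ^ (j + j) = 1 := by
        rw [← two_mul, zpow_mul]
        have : z ^ (2 : ℤ) = 1 := by rw [zpow_ofNat, pow_two, hzz]
        rw [this, one_zpow]
      rw [this, mul_one]
    · right
      have : z ^ (2 * j + 1) = z := by
        rw [zpow_add_one, zpow_mul]
        have : z ^ (2 : ℤ) = 1 := by rw [zpow_ofNat, pow_two, hzz]
        rw [this, one_zpow, one_mul]
      rw [this]
  -- the action of `y` on `K`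
  have hyKact : ∀ x ∈ K, y * x * y⁻¹ = x ∨ y * x * y⁻¹ = x * z := by
    intro x hx
    obtain ⟨r, hr, hxr⟩ := h.sqR hQ hz hzc hR4 hx
    have hxrc : r * x = x * r := (h.mem_K x).1 hx r hr
    set e := x * r⁻¹ with he
    have hee : e * e = 1 := by
      have h1 : x * r⁻¹ = r⁻¹ * x := by
        rw [eq_inv_mul_iff_mul_eq, ← mul_assoc, hxrc, mul_inv_cancel_right]
      calc e * e = x * (r⁻¹ * x) * r⁻¹ := by rw [he]; group
        _ = x * (x * r⁻¹) * r⁻¹ := by rw [h1]
        _ = (x * x) * (r * r)⁻¹ := by group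
        _ = 1 := by rw [hxr, mul_inv_cancel]
    have heK : e ∈ K := mul_mem hx (inv_mem (h.le hr))
    have h2 : y * e * y⁻¹ * e⁻¹ ∈ R := h.comm' y e heK
    set ρ := y * e * y⁻¹ * e⁻¹ with hρ
    have h3 : y * e * y⁻¹ = ρ * e := by rw [hρ]; group
    have h4 : ρ * e = e * ρ := (h.mem_K e).1 heK ρ h2
    have h5 : ρ * ρ = 1 := by
      have h6 : (y * e * y⁻¹) * (y * e * y⁻¹) = 1 := by
        calc (y * e * y⁻¹) * (y * e * y⁻¹) = y * (e * e) * y⁻¹ := by group
          _ = 1 := by rw [hee]; group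
      rw [h3] at h6
      calc ρ * ρ = (ρ * ρ) * (e * e) := by rw [hee, mul_one]
        _ = ρ * (ρ * e) * e := by group
        _ = ρ * (e * ρ) * e := by rw [h4]
        _ = (ρ * e) * (ρ * e) := by group
        _ = 1 := h6
    have hye : y * e * y⁻¹ = e ∨ y * e * y⁻¹ = e * z := by
      rcases h.uniq ρ h2 h5 with h6 | h6
      · left; rw [h3, h6, one_mul]
      · right; rw [h3, h6, hzcc]
    have hxe : x = e * r := by rw [he]; group
    have h7 : y * x * y⁻¹ = (y * e * y⁻¹) * (y * r * y⁻¹) := by rw [hxe]; group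
    rw [h7]
    rcases hye with h8 | h8 <;> rcases hyR hyc r hr with h9 | h9
    · left; rw [h8, h9, hxe]
    · right; rw [h8, h9, hxe]; group
    · right
      rw [h8, h9]
      calc e * z * r = e * (z * r) := by group
        _ = e * (r * z) := by rw [hzcc]
        _ = (e * r) * z := by group
        _ = x * z := by rw [← hxe]
    · left
      rw [h8, h9, hxe]
      calc e * z * (r * z) = e * (z * r) * z := by group
        _ = e * (r * z) * z := by rw [hzcc]
        _ = e * r * (z * z) := by group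
        _ = e * r := by rw [hzz, mul_one]
  -- the subgroup `K₁`
  let K1 : Subgroup Q :=
    { carrier := {x | x ∈ K ∧ x * x * (x * x) = 1}
      mul_mem' := fun {a b} ha hb => ⟨mul_mem ha.1 hb.1, four_mul h hzz hzcc ha.1 hb.1 ha.2 hb.2⟩
      one_mem' := ⟨one_mem _, by simp⟩
      inv_mem' := fun {a} ha => ⟨inv_mem ha.1, by
        have : a⁻¹ * a⁻¹ * (a⁻¹ * a⁻¹) = (a * a * (a * a))⁻¹ := by group
        rw [this, ha.2, inv_one]⟩ }
  have hK1K : ∀ x ∈ K, ∃ e ∈ K1, ∃ r ∈ R, x = e * r := by
    intro x hx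
    obtain ⟨r, hr, hxr⟩ := h.sqR hQ hz hzc hR4 hx
    have hxrc : r * x = x * r := (h.mem_K x).1 hx r hr
    have h1 : x * r⁻¹ = r⁻¹ * x := by
      rw [eq_inv_mul_iff_mul_eq, ← mul_assoc, hxrc, mul_inv_cancel_right]
    have hee : x * r⁻¹ * (x * r⁻¹) = 1 := by
      calc x * r⁻¹ * (x * r⁻¹) = x * (r⁻¹ * x) * r⁻¹ := by group
        _ = x * (x * r⁻¹) * r⁻¹ := by rw [h1]
        _ = (x * x) * (r * r)⁻¹ := by group
        _ = 1 := by rw [hxr, mul_inv_cancel]
    exact ⟨x * r⁻¹, ⟨mul_mem hx (inv_mem (h.le hr)), by rw [hee, mul_one]⟩, r, hr, by group⟩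
  -- an element commuting with `K₁` and `R` is in `R`
  have hcent : ∀ v : Q, (∀ x ∈ K1, v * x = x * v) → (v * c = c * v) → v ∈ R := by
    intro v h1 h2
    apply h.cent
    intro x hx
    obtain ⟨e, he, r, hr, rfl⟩ := hK1K x hx
    obtain ⟨i, rfl⟩ := hgen r hr
    have h3 : v * c ^ i = c ^ i * v := (show Commute v c from h2).zpow_right i
    rw [mul_assoc, ← h3, ← mul_assoc, ← h1 e he, mul_assoc]
  -- the element `k`
  have hzK1 : z ∈ K1 := ⟨h.le h.zR, by rw [hzz, mul_one]⟩
  obtain ⟨k, hk⟩ := Cfsg.Agent.ClassificationK.SymplDual.exists_comm_iff (K := K1) (ζ := ⟨z, hzK1⟩)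
    (fun h1 => hz1 (congrArg Subtype.val h1)) (Subtype.ext hzz) (fun x => Subtype.ext (hzcc x).symm)
    (by
      intro x x'
      rcases h.comm x x.2.1 x' x'.2.1 with h1 | h1
      · exact Or.inl (Subtype.ext h1)
      · exact Or.inr (Subtype.ext h1))
    (fun x => if y * (x : Q) = x * y then 0 else 1)
    (by
      intro x x'
      have key : ∀ w : Q, w ≠ w * z := fun w hw => hz1 (mul_eq_left.1 hw.symm)
      have conj_iff : ∀ w : Q, y * w = w * y ↔ y * w * y⁻¹ = w := fun w => by rw [mul_inv_eq_iff_eq_mul]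
      have e0 : y * ((x : Q) * x') * y⁻¹ = (y * x * y⁻¹) * (y * x' * y⁻¹) := by group
      have z11 : (1 : ZMod 2) + 1 = 0 := Cfsg.Agent.ClassificationK.SymplDual.z11
      simp only [coe_mul, conj_iff]
      rcases hyKact x x.2.1 with h1 | h1 <;> rcases hyKact x' x'.2.1 with h2 | h2
      · rw [if_pos (by rw [e0, h1, h2]), if_pos h1, if_pos h2, add_zero]
      · rw [if_neg (by rw [e0, h1, h2, ← mul_assoc]; exact (key _).symm), if_pos h1,
          if_neg (by rw [h2]; exact (key _).symm), zero_add]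
      · rw [if_neg (by
            rw [e0, h1, h2]
            have : (x : Q) * z * x' = x * x' * z := by rw [mul_assoc, hzcc, ← mul_assoc]
            rw [this]
            exact (key _).symm), if_neg (by rw [h1]; exact (key _).symm), if_pos h2, add_zero]
      · rw [if_pos (by
            rw [e0, h1, h2]
            calc (x : Q) * z * (x' * z) = x * (z * x') * z := by group
              _ = x * (x' * z) * z := by rw [hzcc]
              _ = x * x' * (z * z) := by group
              _ = x * x' := by rw [hzz, mul_one]), if_neg (by rw [h1]; exact (key _).symm),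
          if_neg (by rw [h2]; exact (key _).symm), z11])
    (by
      intro x hx
      rw [if_pos]
      -- `x` is central in `K₁`, so in `R`
      have hxR : (x : Q) ∈ R := by
        apply hcent x
        · intro e he
          exact (congrArg Subtype.val (mem_center_iff.1 hx ⟨e, he⟩)).symm
        · exact ((h.mem_K x).1 x.2.1 c hc).symm
      exact (hfour x hxR x.2.2 y).symm)
  have hk' : ∀ x ∈ K1, (y * x = x * y ↔ (k : Q) * x = x * k) := by
    intro x hx
    have h1 := hk ⟨x, hx⟩
    have h2 : (⟨x, hx⟩ : K1) = ⟨x, hx⟩ := rfl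
    constructor
    · intro h3
      exact congrArg Subtype.val (h1.1 (if_pos h3))
    · intro h3
      by_contra h4
      have h5 := h1.2 (Subtype.ext h3)
      rw [if_neg h4] at h5
      exact absurd h5 one_ne_zero
  -- `y₁ = k y` commutes with `K₁`
  have hkR : ∀ r ∈ R, (k : Q) * r * (k : Q)⁻¹ = r := by
    intro r hr
    rw [mul_inv_eq_iff_eq_mul]
    exact ((h.mem_K k).1 k.2.1 r hr).symm
  set y1 := (k : Q) * y with hy1
  have hy1K : ∀ x ∈ K1, y1 * x = x * y1 := by
    intro x hx
    rw [← mul_inv_eq_iff_eq_mul]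
    have e0 : y1 * x * y1⁻¹ = k * (y * x * y⁻¹) * (k : Q)⁻¹ := by rw [hy1]; group
    rw [e0]
    have hyx : (y * x * y⁻¹ = x) ↔ ((k : Q) * x * (k : Q)⁻¹ = x) := by
      rw [mul_inv_eq_iff_eq_mul, mul_inv_eq_iff_eq_mul]
      exact hk' x hx
    have hkx : (k : Q) * x * (k : Q)⁻¹ = x ∨ (k : Q) * x * (k : Q)⁻¹ = x * z := by
      rcases h.comm k k.2.1 x hx.1 with h1 | h1
      · left; rw [h1]; group
      · right
        rw [h1, mul_inv_eq_iff_eq_mul, mul_assoc, mul_assoc, hzcc]
    rcases hyKact x hx.1 with h1 | h1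
    · rw [h1]
      exact hyx.1 h1
    · rcases hkx with h2 | h2
      · exfalso
        have := hyx.2 h2
        rw [h1] at this
        exact hz1 (mul_eq_left.1 this)
      · rw [h1]
        calc (k : Q) * (x * z) * (k : Q)⁻¹ = k * (x * z) * (k : Q)⁻¹ := rfl
          _ = (k * x) * (z * (k : Q)⁻¹) := by group
          _ = (k * x) * ((k : Q)⁻¹ * z) := by rw [hzcc]
          _ = (k * x * (k : Q)⁻¹) * z := by group
          _ = x * (z * z) := by rw [h2]; group
          _ = x := by rw [hzz, mul_one]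
  have hy1c : y1 * c * y1⁻¹ = c * z := by
    have e0 : y1 * c * y1⁻¹ = k * (y * c * y⁻¹) * (k : Q)⁻¹ := by rw [hy1]; group
    rw [e0, hyc]
    exact hkR _ (mul_mem hc h.zR)
  -- `y₁² ∈ R` is a square
  have hy11 : y1 * y1 ∈ R := by
    apply hcent
    · intro x hx
      have h1 : Commute y1 x := hy1K x hx
      exact h1.mul_left h1
    · rw [← mul_inv_eq_iff_eq_mul]
      calc y1 * y1 * c * (y1 * y1)⁻¹ = y1 * (y1 * c * y1⁻¹) * y1⁻¹ := by group
        _ = y1 * (c * z) * y1⁻¹ := by rw [hy1c]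
        _ = (y1 * c) * (z * y1⁻¹) := by group
        _ = (y1 * c) * (y1⁻¹ * z) := by rw [hzcc]
        _ = (y1 * c * y1⁻¹) * z := by group
        _ = c * (z * z) := by rw [hy1c]; group
        _ = c := by rw [hzz, mul_one]
  obtain ⟨s, hsR, hss⟩ : ∃ s ∈ R, s * s = z := by
    -- an element of order 4 of `Z(Q)`
    have hcy : IsCyclic (center Q) := hQ.2 _ inferInstance inferInstance
    obtain ⟨g, hg⟩ := hcy.exists_ofOrder_eq_natCard
    rw [hZ] at hg
    have h1 : orderOf (g : Q) = 4 := by rw [Subgroup.orderOf_coe]; exact hg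
    refine ⟨g, hZR g.2, ?_⟩
    have h2 : (g : Q) * g * (g * g) = 1 := by
      rw [← pow4, ← h1, pow_orderOf_eq_one]
    rcases h.uniq (g * g) (mul_mem (hZR g.2) (hZR g.2)) h2 with h3 | h3
    · exfalso
      have h4 : orderOf (g : Q) ∣ 2 := orderOf_dvd_of_pow_eq_one (by rw [pow_two]; exact h3)
      rw [h1] at h4
      omega
    · exact h3
  obtain ⟨y2, hy2K, hy2c, hy22⟩ : ∃ y2 : Q, (∀ x ∈ K1, y2 * x = x * y2) ∧ y2 * c * y2⁻¹ = c * z ∧ y2 * y2 = 1 := by
    obtain ⟨m, hm⟩ := hgen _ hy11
    have hme : Even m := by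
      by_contra ho
      rw [Int.not_even_iff_odd] at ho
      obtain ⟨j, rfl⟩ := ho
      have h1 : y1 * c ^ (2 * j + 1) * y1⁻¹ = c ^ (2 * j + 1) * z ^ (2 * j + 1) := by
        rw [← conj_zpow, hy1c, (show Commute c z from (hzcc c).symm).mul_zpow]
      have h2 : z ^ (2 * j + 1) = z := by
        rw [zpow_add_one, zpow_mul]
        have : z ^ (2 : ℤ) = 1 := by rw [zpow_ofNat, pow_two, hzz]
        rw [this, one_zpow, one_mul]
      rw [h2, hm] at h1
      have h3 : y1 * (y1 * y1) * y1⁻¹ = y1 * y1 := by group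
      rw [h3] at h1
      exact hz1 (mul_eq_left.1 h1.symm)
    obtain ⟨j, rfl⟩ := hme
    set d := c ^ j with hd
    have hdR : d ∈ R := zpow_mem hc j
    have hdd : y1 * y1 = d * d := by rw [← hm, hd, ← zpow_add]
    have hRK1 : ∀ r ∈ R, ∀ x ∈ K1, r * x = x * r := fun r hr x hx => (h.mem_K x).1 hx.1 r hr
    have hRc : ∀ r ∈ R, r * c = c * r := fun r hr => (h.mem_K c).1 (h.le hc) r hr
    -- `(y₁ r)` for `r ∈ R`
    have hgenl : ∀ r ∈ R, (∀ x ∈ K1, y1 * r * x = x * (y1 * r)) ∧ (y1 * r) * c * (y1 * r)⁻¹ = c * z := by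
      intro r hr
      constructor
      · intro x hx
        rw [mul_assoc, hRK1 r hr x hx, ← mul_assoc, hy1K x hx, mul_assoc]
      · calc (y1 * r) * c * (y1 * r)⁻¹ = y1 * (r * c) * r⁻¹ * y1⁻¹ := by group
          _ = y1 * (c * r) * r⁻¹ * y1⁻¹ := by rw [hRc r hr]
          _ = y1 * c * y1⁻¹ := by group
          _ = c * z := hy1c
    have e1 : ∀ r : Q, y1 * r * (y1 * r) = (y1 * y1) * (y1⁻¹ * r * y1) * r := fun r => by group
    have hy1inv : ∀ r ∈ R, y1⁻¹ * r * y1 = r ∨ y1⁻¹ * r * y1 = r * z := by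
      intro r hr
      rcases hyR hy1c r hr with h1 | h1
      · left
        rw [mul_inv_eq_iff_eq_mul] at h1
        rw [mul_assoc, ← h1]; group
      · right
        rw [mul_inv_eq_iff_eq_mul] at h1
        have h2 : y1 * (r * z) = r * y1 := by
          rw [← mul_assoc, h1, mul_assoc, mul_assoc, ← mul_assoc z, hzcc y1, mul_assoc, hzz, mul_one]
        rw [mul_assoc, ← h2]; group
    rcases hy1inv d⁻¹ (inv_mem hdR) with h1 | h1
    · refine ⟨y1 * d⁻¹, (hgenl _ (inv_mem hdR)).1, (hgenl _ (inv_mem hdR)).2, ?_⟩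
      rw [e1, h1, hdd]; group
    · refine ⟨y1 * (d⁻¹ * s), (hgenl _ (mul_mem (inv_mem hdR) hsR)).1, (hgenl _ (mul_mem (inv_mem hdR) hsR)).2, ?_⟩
      have hs4 : s * s * (s * s) = 1 := by rw [hss, hzz]
      have hsy : ∀ q : Q, s * q = q * s := hfour s hsR hs4
      rw [e1]
      have h2 : y1⁻¹ * (d⁻¹ * s) * y1 = d⁻¹ * z * s := by
        calc y1⁻¹ * (d⁻¹ * s) * y1 = y1⁻¹ * d⁻¹ * (s * y1) := by group
          _ = y1⁻¹ * d⁻¹ * (y1 * s) := by rw [hsy]
          _ = (y1⁻¹ * d⁻¹ * y1) * s := by group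
          _ = d⁻¹ * z * s := by rw [h1]
      rw [h2, hdd]
      calc d * d * (d⁻¹ * z * s) * (d⁻¹ * s) = d * (z * (s * d⁻¹)) * s := by group
        _ = d * (z * (d⁻¹ * s)) * s := by rw [hsy]
        _ = d * ((z * d⁻¹) * s) * s := by group
        _ = d * ((d⁻¹ * z) * s) * s := by rw [hzcc]
        _ = z * (s * s) := by group
        _ = 1 := by rw [hss, hzz]
  -- the characteristic subgroup `V = {1, z, y₂, z y₂}`
  let S : Set Q := {v | v * v = 1 ∧ (∀ x ∈ K, x * x * (x * x) = 1 → v * x = x * v) ∧ ∀ r ∈ R, v * (r * r) = r * r * v}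
  have hS : ∀ v, v ∈ S ↔ v = 1 ∨ v = z ∨ v = y2 ∨ v = z * y2 := by
    have hy2R : ∀ r ∈ R, y2 * (r * r) = r * r * y2 := by
      intro r hr
      rw [← mul_inv_eq_iff_eq_mul]
      have e0 : y2 * (r * r) * y2⁻¹ = (y2 * r * y2⁻¹) * (y2 * r * y2⁻¹) := by group
      rw [e0]
      rcases hyR hy2c r hr with h1 | h1
      · rw [h1]
      · rw [h1]
        calc r * z * (r * z) = r * (z * r) * z := by group
          _ = r * (r * z) * z := by rw [hzcc]
          _ = r * r * (z * z) := by group
          _ = r * r := by rw [hzz, mul_one]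
    intro v
    constructor
    · rintro ⟨h1, h2, h3⟩
      have hvK1 : ∀ x ∈ K1, v * x = x * v := fun x hx => h2 x hx.1 hx.2
      have h4 : v * c * v⁻¹ * c⁻¹ ∈ R := mul_mem (hRn.conj_mem c hc v) (inv_mem hc)
      have h5 : v * c * v⁻¹ * c⁻¹ * (v * c * v⁻¹ * c⁻¹) = 1 := by
        have h6 : (v * c * v⁻¹) * c⁻¹ = c⁻¹ * (v * c * v⁻¹) := by
          have := (h.mem_K (v * c * v⁻¹)).1 (h.le (hRn.conj_mem c hc v)) c⁻¹ (inv_mem hc)
          exact this.symm
        have h7 : (v * c * v⁻¹) * (v * c * v⁻¹) = c * c := by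
          calc (v * c * v⁻¹) * (v * c * v⁻¹) = v * (c * c) * v⁻¹ := by group
            _ = (c * c) * v * v⁻¹ := by rw [h3 c hc]
            _ = c * c := by group
        calc v * c * v⁻¹ * c⁻¹ * (v * c * v⁻¹ * c⁻¹) = (v * c * v⁻¹) * (c⁻¹ * (v * c * v⁻¹)) * c⁻¹ := by group
          _ = (v * c * v⁻¹) * ((v * c * v⁻¹) * c⁻¹) * c⁻¹ := by rw [h6]
          _ = ((v * c * v⁻¹) * (v * c * v⁻¹)) * (c * c)⁻¹ := by group
          _ = 1 := by rw [h7, mul_inv_cancel]
      rcases h.uniq _ h4 h5 with h6 | h6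
      · -- `v` commutes with `c`
        have h7 : v * c = c * v := by
          rw [mul_inv_eq_one, mul_inv_eq_iff_eq_mul] at h6
          exact h6
        rcases h.uniq v (hcent v hvK1 h7) h1 with h8 | h8
        · exact Or.inl h8
        · exact Or.inr (Or.inl h8)
      · have h7 : v * c * v⁻¹ = c * z := by
          rw [mul_inv_eq_iff_eq_mul] at h6
          rw [h6, hzcc]
        -- `v y₂ ∈ R`
        have h8 : v * y2 ∈ R := by
          apply hcent
          · intro x hx
            rw [mul_assoc, hy2K x hx, ← mul_assoc, hvK1 x hx, mul_assoc]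
          · rw [← mul_inv_eq_iff_eq_mul]
            calc v * y2 * c * (v * y2)⁻¹ = v * (y2 * c * y2⁻¹) * v⁻¹ := by group
              _ = v * (c * z) * v⁻¹ := by rw [hy2c]
              _ = (v * c) * (z * v⁻¹) := by group
              _ = (v * c) * (v⁻¹ * z) := by rw [hzcc]
              _ = (v * c * v⁻¹) * z := by group
              _ = c * (z * z) := by rw [h7]; group
              _ = c := by rw [hzz, mul_one]
        set ρ := v * y2 with hρ
        have hvρ : v = ρ * y2 := by rw [hρ, mul_assoc, hy22, mul_one]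
        have h9 : ρ * (y2 * ρ * y2⁻¹) = 1 := by
          have hy2i : y2⁻¹ = y2 := inv_eq_of_mul_eq_one_left hy22
          calc ρ * (y2 * ρ * y2⁻¹) = (ρ * y2) * (ρ * y2) := by rw [hy2i]; group
            _ = 1 := by rw [← hvρ]; exact h1
        rcases hyR hy2c ρ h8 with h10 | h10
        · rw [h10] at h9
          rcases h.uniq ρ h8 h9 with h11 | h11
          · right; right; left; rw [hvρ, h11, one_mul]
          · right; right; right; rw [hvρ, h11]
        · exfalso
          rw [h10, ← mul_assoc] at h9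
          have h11 : ρ * ρ = z := by
            have : ρ * ρ = z⁻¹ := mul_eq_one_iff_eq_inv.1 h9
            rw [this]
            exact inv_eq_of_mul_eq_one_left hzz
          have h12 := hfour ρ h8 (by rw [h11, hzz]) y2
          rw [← h12, mul_inv_cancel_right] at h10
          exact hz1 (mul_eq_left.1 h10.symm)
    · rintro (rfl | rfl | rfl | rfl)
      · refine ⟨by simp, fun x _ _ => by simp, fun r _ => by simp⟩
      · exact ⟨hzz, fun x _ _ => hzcc x, fun r _ => hzcc _⟩
      · exact ⟨hy22, fun x hx hx4 => hy2K x ⟨hx, hx4⟩, hy2R⟩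
      · refine ⟨?_, fun x hx hx4 => ?_, fun r hr => ?_⟩
        · calc z * y2 * (z * y2) = z * (y2 * z) * y2 := by group
            _ = z * (z * y2) * y2 := by rw [← hzcc y2]
            _ = (z * z) * (y2 * y2) := by group
            _ = 1 := by rw [hzz, hy22, mul_one]
        · rw [mul_assoc, hy2K x ⟨hx, hx4⟩, ← mul_assoc, hzcc, mul_assoc]
        · rw [mul_assoc, hy2R r hr, ← mul_assoc, hzcc, mul_assoc]
  have hzy : z * y2 = y2 * z := hzcc y2
  let V : Subgroup Q :=
    { carrier := S
      mul_mem' := by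
        intro a b ha hb
        rw [hS] at ha hb ⊢
        rcases ha with rfl | rfl | rfl | rfl <;> rcases hb with rfl | rfl | rfl | rfl
        · left; simp
        · right; left; simp
        · right; right; left; simp
        · right; right; right; simp
        · right; left; simp
        · left; exact hzz
        · right; right; right; rfl
        · right; right; left; rw [← mul_assoc, hzz, one_mul]
        · right; right; left; simp
        · right; right; right; exact hzy.symm
        · left; exact hy22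
        · right; left; rw [hzy, ← mul_assoc, hy22, one_mul]
        · right; right; right; simp
        · right; right; left; rw [mul_assoc, ← hzy, ← mul_assoc, hzz, one_mul]
        · right; left; rw [mul_assoc, hy22, mul_one]
        · left
          calc z * y2 * (z * y2) = z * (y2 * z) * y2 := by group
            _ = z * (z * y2) * y2 := by rw [hzy]
            _ = (z * z) * (y2 * y2) := by group
            _ = 1 := by rw [hzz, hy22, mul_one]
      one_mem' := (hS 1).2 (Or.inl rfl)
      inv_mem' := by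
        intro a ha
        have : a⁻¹ = a := inv_eq_of_mul_eq_one_left ha.1
        rw [this]
        exact ha }
  have hVc : V.Characteristic := by
    rw [characteristic_iff_le_comap]
    intro σ v hv
    have hv' : v ∈ S := hv
    have hKσ : ∀ x ∈ K, σ.symm x ∈ K := by
      intro x hx
      have h1 := characteristic_iff_le_comap.1 h.charK σ.symm hx
      exact h1
    have hRσ : ∀ x ∈ R, σ.symm x ∈ R := by
      intro x hx
      have h1 := characteristic_iff_le_comap.1 h.charR σ.symm hx
      exact h1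
    show σ v ∈ S
    refine ⟨?_, ?_, ?_⟩
    · rw [← map_mul, hv'.1, map_one]
    · intro x hx hx4
      have h1 := hv'.2.1 (σ.symm x) (hKσ x hx) (by rw [← map_mul, ← map_mul, hx4, map_one])
      have h2 := congrArg σ h1
      rwa [map_mul, map_mul, MulEquiv.apply_symm_apply] at h2
    · intro r hr
      have h1 := hv'.2.2 (σ.symm r) (hRσ r hr)
      have h2 := congrArg σ h1
      simp only [map_mul, MulEquiv.apply_symm_apply] at h2
      exact h2
  have hVab : IsMulCommutative V := by
    refine ⟨⟨fun a b => Subtype.ext ?_⟩⟩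
    have ha : (a : Q) * a = 1 := a.2.1
    have hb : (b : Q) * b = 1 := b.2.1
    have hab : (a : Q) * b * (a * b) = 1 := (V.mul_mem a.2 b.2).1
    show (a : Q) * b = b * a
    have h1 : ((a : Q) * b)⁻¹ = a * b := inv_eq_of_mul_eq_one_left hab
    rw [mul_inv_rev, inv_eq_of_mul_eq_one_left ha, inv_eq_of_mul_eq_one_left hb] at h1
    exact h1.symm
  have hVcy := hQ.2 V hVc hVab
  have hzV : z ∈ V := (hS z).2 (Or.inr (Or.inl rfl))
  have hyV : y2 ∈ V := (hS y2).2 (Or.inr (Or.inr (Or.inl rfl)))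
  have hy21 : y2 ≠ 1 := by
    rintro rfl
    rw [one_mul, inv_one, mul_one] at hy2c
    exact hz1 (mul_eq_left.1 hy2c.symm)
  have hy2z : y2 ≠ z := by
    intro h1
    rw [h1, hzcc, mul_inv_cancel_right] at hy2c
    exact hz1 (mul_eq_left.1 hy2c.symm)
  apply hy2z
  exact Cfsg.Agent.S1755.eq_of_orderOf_two_mem hVcy hyV hzV (orderOf_eq_prime (by rw [pow_two]; exact hy22) hy21) hz

/-- **A 2-group of symplectic type with centre of order 4** -/
theorem sym (hQ : Cfsg.IsOfSymplecticType Q) (hZ : Nat.card (center Q) = 4) :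
    ∃ z ∈ center Q, orderOf z = 2 ∧ (∀ x y : Q, x * y * x⁻¹ * y⁻¹ ∈ zpowers z) ∧ ∀ x : Q, x * x ∈ zpowers z := by
  classical
  have : Fact (Nat.Prime 2) := ⟨Nat.prime_two⟩
  obtain ⟨⟨z, hzc⟩, hz⟩ := exists_prime_orderOf_dvd_card' (G := center Q) 2 (by rw [hZ]; norm_num)
  rw [← Subgroup.orderOf_coe] at hz
  have hz' : orderOf z = 2 := hz
  obtain ⟨K, R, h⟩ := exists_KR hQ hz' hzc
  have htop := top_of hQ hZ hz' hzc h
  have hzz : z * z = 1 := h.zz hz'
  have hzcc : ∀ x : Q, z * x = x * z := fun x => (mem_center_iff.1 hzc x).symm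
  have hRc : ∀ r ∈ R, r ∈ center Q := by
    intro r hr
    rw [mem_center_iff]
    intro q
    exact ((h.mem_K q).1 (htop q) r hr).symm
  have hZR : center Q ≤ R := fun x hx => h.cent x fun y _ => mem_center_iff.1 hx y
  have hR4 : 4 ≤ Nat.card R := by
    rw [← hZ]
    exact Nat.card_le_card_of_injective (fun a : center Q => (⟨a, hZR a.2⟩ : R))
      (fun a b hab => Subtype.ext (congrArg (fun r : R => (r : Q)) hab))
  refine ⟨z, hzc, hz', ?_, ?_⟩
  · intro x y
    rcases h.comm x (htop x) y (htop y) with h1 | h1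
    · rw [h1]
      have : y * x * x⁻¹ * y⁻¹ = 1 := by group
      rw [this]
      exact one_mem _
    · rw [h1]
      have : y * x * z * x⁻¹ * y⁻¹ = z := by
        calc y * x * z * x⁻¹ * y⁻¹ = y * x * (z * (x⁻¹ * y⁻¹)) := by group
          _ = y * x * ((x⁻¹ * y⁻¹) * z) := by rw [hzcc]
          _ = z := by group
      rw [this]
      exact mem_zpowers z
  · intro x
    obtain ⟨r, hr, hxr⟩ := h.sqR hQ hz' hzc hR4 (htop x)
    rw [hxr]
    have h4 : r * r * (r * r) = 1 := by
      have h1 : (⟨r, hRc r hr⟩ : center Q) ^ 4 = 1 := by rw [← hZ]; exact pow_card_eq_one'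
      have h2 : r ^ 4 = 1 := congrArg Subtype.val h1
      rw [← pow4]; exact h2
    rcases h.uniq (r * r) (mul_mem hr hr) h4 with h1 | h1
    · rw [h1]; exact one_mem _
    · rw [h1]; exact mem_zpowers z

end Cfsg.Agent.H738.C3.Sym
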