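import Mathlib
import Cfsg.Prelude.Def_ClassificationK
import Cfsg.Prelude.Def_CaseTheorems
import Cfsg.Agent.H738.C3.Sym
import Cfsg.Agent.H738.C3.Engine

/-!
# S1920: the data inside `G` (helper738)

`X = H`, `f : X → B = H / O(H)`, `N ⊴ B` of order 64, `B / N ≅ S₆`; `Lift f N M` : the Sylow 2-subgroup `M` of `f⁻¹(N)`.
-/

set_option autoImplicit false

open Subgroup Equiv

namespace Cfsg.Agent.H738.C3

theorem exists_kl : ∀ i j : Fin 6, ∃ k l : Fin 6, k ≠ i ∧ k ≠ j ∧ l ≠ i ∧ l ≠ j ∧ k ≠ l := by decide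

/-- the centralizer of `A₆` in `S₆` -/
theorem cent_alt_six (d : Perm (Fin 6)) (h : ∀ a ∈ alternatingGroup (Fin 6), a * d = d * a) : d = 1 := by
  by_contra hd
  obtain ⟨i, hi⟩ : ∃ i, d i ≠ i := by
    by_contra hcon
    push Not at hcon
    exact hd (Equiv.ext hcon)
  obtain ⟨k, l, hk, hk', hl, hl', hkl⟩ := exists_kl i (d i)
  have hc : Equiv.swap i k * Equiv.swap i l ∈ alternatingGroup (Fin 6) := by
    rw [Perm.mem_alternatingGroup, Perm.sign_mul, Perm.sign_swap hk.symm, Perm.sign_swap hl.symm]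
    rfl
  have h1 := congrArg (fun σ : Perm (Fin 6) => σ i) (h _ hc)
  simp only [Perm.mul_apply] at h1
  rw [Equiv.swap_apply_of_ne_of_ne hi hl'.symm, Equiv.swap_apply_of_ne_of_ne hi hk'.symm, Equiv.swap_apply_left,
    Equiv.swap_apply_of_ne_of_ne hl hkl.symm] at h1
  exact hl (d.injective h1.symm)

/-- no nontrivial 2-subgroup of `S₆` is normalized by `A₆` -/
theorem two_perm_six (D : Subgroup (Perm (Fin 6))) (h2 : IsPGroup 2 D)
    (hn : ∀ a ∈ alternatingGroup (Fin 6), ∀ d ∈ D, a * d * a⁻¹ ∈ D) : ∀ d ∈ D, d = 1 := by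
  have : Fact (Nat.Prime 2) := ⟨Nat.prime_two⟩
  have h6 : IsSimpleGroup (alternatingGroup (Fin 6)) := alternatingGroup.isSimpleGroup (by simp)
  -- `D ∩ A₆ = 1`
  have hDA : ∀ d ∈ D, d ∈ alternatingGroup (Fin 6) → d = 1 := by
    have hN : (D.subgroupOf (alternatingGroup (Fin 6))).Normal := by
      constructor
      intro d hd a
      exact hn a a.2 d hd
    rcases hN.eq_bot_or_eq_top with h | h
    · intro d hd hdA
      have h1 : (⟨d, hdA⟩ : alternatingGroup (Fin 6)) ∈ D.subgroupOf (alternatingGroup (Fin 6)) := hd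
      rw [h, mem_bot] at h1
      exact congrArg Subtype.val h1
    · exfalso
      have hle : alternatingGroup (Fin 6) ≤ D := subgroupOf_eq_top.1 h
      have h3 : IsPGroup 2 (alternatingGroup (Fin 6)) := h2.to_le hle
      obtain ⟨n, hn⟩ := h3.exists_card_eq
      have h4 : Nat.card (alternatingGroup (Fin 6)) = 360 := by
        rw [nat_card_alternatingGroup]; simp [Nat.factorial]
      have h5 : (3 : ℕ) ∣ 2 ^ n := by rw [← hn, h4]; norm_num
      have h6 := (Nat.prime_three).dvd_of_dvd_pow h5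
      omega
  intro d hd
  apply cent_alt_six
  intro a ha
  have h1 : a * d * a⁻¹ * d⁻¹ ∈ D := mul_mem (hn a ha d hd) (inv_mem hd)
  have h2 : a * d * a⁻¹ * d⁻¹ ∈ alternatingGroup (Fin 6) := by
    have h3 : d * a⁻¹ * d⁻¹ ∈ alternatingGroup (Fin 6) :=
      (inferInstance : (alternatingGroup (Fin 6)).Normal).conj_mem _ (inv_mem ha) d
    have e : a * d * a⁻¹ * d⁻¹ = a * (d * a⁻¹ * d⁻¹) := by group
    rw [e]
    exact mul_mem ha h3
  have h4 := hDA _ h1 h2
  rw [mul_inv_eq_one, mul_inv_eq_iff_eq_mul] at h4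
  exact h4

section lift

variable {X B : Type*} [Group X] [Group B]

/-- `M` is a Sylow 2-subgroup of `f⁻¹(N)`, mapped isomorphically onto the 2-group `N` -/
structure Lift (f : X →* B) (N : Subgroup B) (M : Subgroup X) : Prop where
  two : IsPGroup 2 M
  map : M.map f = N
  norm : (normalizer (M : Set X)).map f = ⊤

theorem inj_two {f : X →* B} (hk : (Nat.card f.ker).Coprime 2) {x : X} (h2 : ∃ n, x ^ 2 ^ n = 1) (hx : f x = 1) :
    x = 1 := by
  obtain ⟨n, hn⟩ := h2
  have h1 : orderOf x ∣ 2 ^ n := orderOf_dvd_of_pow_eq_one hn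
  have h3 : orderOf (⟨x, hx⟩ : f.ker) ∣ Nat.card f.ker := orderOf_dvd_natCard _
  rw [← Subgroup.orderOf_coe] at h3
  have h4 : orderOf x ∣ 1 := by
    have h5 : (Nat.card f.ker).Coprime (2 ^ n) := hk.pow_right n
    exact h5 ▸ Nat.dvd_gcd h3 h1
  exact orderOf_eq_one_iff.1 (Nat.dvd_one.1 h4)

/-- existence of the lift over a normal 2-subgroup -/
theorem exists_lift [Finite X] {f : X →* B} (hf : Function.Surjective f) (hk : (Nat.card f.ker).Coprime 2)
    {N : Subgroup B} [hN : N.Normal] (h2 : IsPGroup 2 N) {P : Subgroup X} (hP : IsPGroup 2 P)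
    (hPn : P.Normal) (hPN : P.map f ≤ N) : ∃ M : Subgroup X, P ≤ M ∧ Lift f N M := by
  have : Fact (Nat.Prime 2) := ⟨Nat.prime_two⟩
  have hB : Finite B := Finite.of_surjective f hf
  set C := N.comap f with hC
  have hCn : C.Normal := inferInstance
  have hPC : P ≤ C := by
    rw [hC, ← map_le_iff_le_comap]
    exact hPN
  have hPC2 : IsPGroup 2 (P.subgroupOf C) := by
    have e := (subgroupOfEquivOfLe hPC)
    exact hP.of_equiv e.symm
  obtain ⟨S, hS⟩ := hPC2.exists_le_sylow
  set M : Subgroup X := (S : Subgroup C).map C.subtype with hM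
  have hM2 : IsPGroup 2 M := S.isPGroup'.map _
  have hMC : M ≤ C := map_subtype_le _
  have hPM : P ≤ M := by
    intro p hp
    exact ⟨⟨p, hPC hp⟩, hS hp, rfl⟩
  -- the order of `M`
  have hmap : M.map f = N := by
    apply le_antisymm
    · rw [map_le_iff_le_comap]
      exact hMC
    · -- the index of `f(M)` in `N` is odd and a power of two
      have h1 : (M.map f) ≤ N := by
        rw [map_le_iff_le_comap]
        exact hMC
      let g : C →* N := f.subgroupComap N
      have hg : Function.Surjective g := f.subgroupComap_surjective_of_surjective N hf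
      have h3 : ((S : Subgroup C).map g).index ∣ (S : Subgroup C).index := index_map_dvd _ hg
      have h4 : ¬ 2 ∣ (S : Subgroup C).index := S.not_dvd_index
      have h5 : ((S : Subgroup C).map g).index ∣ Nat.card N := index_dvd_card _
      obtain ⟨n, hn⟩ := h2.exists_card_eq
      rw [hn] at h5
      obtain ⟨k, -, hk'⟩ := (Nat.dvd_prime_pow Nat.prime_two).1 h5
      have h6 : k = 0 := by
        by_contra h0
        apply h4
        refine dvd_trans ?_ h3
        rw [hk']
        exact dvd_pow_self 2 h0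
      rw [h6, pow_zero] at hk'
      have h7 : (S : Subgroup C).map g = ⊤ := index_eq_one.1 hk'
      intro n hn
      have h8 : (⟨n, hn⟩ : N) ∈ (S : Subgroup C).map g := by rw [h7]; exact mem_top _
      obtain ⟨s, hs, hsn⟩ := h8
      exact ⟨s, ⟨s, hs, rfl⟩, congrArg Subtype.val hsn⟩
  refine ⟨M, hPM, hM2, hmap, ?_⟩
  have h1 := Sylow.normalizer_sup_eq_top S
  have h2 := congrArg (Subgroup.map f) h1
  rw [Subgroup.map_sup, ← MonoidHom.range_eq_map, MonoidHom.range_eq_top.2 hf] at h2
  have h3 : C.map f = N := map_comap_eq_self_of_surjective hf N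
  rw [h3] at h2
  rw [eq_top_iff, ← h2]
  apply sup_le le_rfl
  calc N = M.map f := hmap.symm
    _ ≤ _ := Subgroup.map_mono le_normalizer

end lift

end Cfsg.Agent.H738.C3
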