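import Mathlib
import Cfsg.Agent.H738.C3.Setup
import Cfsg.Agent.H738.C3.Engine
import Cfsg.Agent.H13.Co3.Def

/-!
# S1920, case B: tools for the rows (helper738)

`CB.conf` : `Conf z N0`; `CB.exists_five` : an element of order 5 commuting with `N0` which is in the kernel of no map to a
small group ...; `Conf.kill_quot` : no subgroup `K ∋ y` with a quotient in which the image of some `n ∈ N0 ∩ K` is an involution
with centralizer of characteristic 2.
-/

set_option autoImplicit false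

open Subgroup Equiv

namespace Cfsg.Agent.H738.C3

variable {G : Type*} [Group G]

section cb

open Cfsg.Agent.H13.Co3

variable {P N0 : Subgroup G} {z s : G} {ψ : ↥(normalizer (P : Set G)) →* Equiv.Perm (Fin 6)}

theorem orderOf_z (C : CB P N0 z s ψ) : orderOf z = 2 :=
  orderOf_eq_prime (by rw [pow_two]; exact C.z_sq) C.z_ne

theorem act_iff (C : CB P N0 z s ψ) {g : G} :
    Act z N0 g ↔ ∀ n ∈ N0, g * n = n * g ∨ g * n = z * (n * g) := by
  constructor
  · intro h n hn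
    rcases mem_zp (orderOf_z C) (h n hn) with h1 | h1
    · left
      rw [mul_inv_eq_one, mul_inv_eq_iff_eq_mul] at h1
      exact h1
    · right
      rw [mul_inv_eq_iff_eq_mul, mul_inv_eq_iff_eq_mul] at h1
      rw [h1, mul_assoc]
  · intro h n hn
    rcases h n hn with h1 | h1
    · rw [h1, mul_inv_cancel_right, mul_inv_cancel]
      exact one_mem _
    · rw [h1]
      have e : z * (n * g) * g⁻¹ * n⁻¹ = z := by group
      rw [e]
      exact mem_zpowers z

theorem act_N (C : CB P N0 z s ψ) {n : G} (hn : n ∈ N0) : Act z N0 n := by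
  rw [act_iff C]
  intro m hm
  exact C.comm n hn m hm

/-- a 2-subgroup of `{g | [g, N0] ≤ <z>}` normalized by this set is in `N0` -/
theorem le_N0 [Finite G] (C : CB P N0 z s ψ) {W : Subgroup G} (hW : IsPGroup 2 W) (hWA : ∀ w ∈ W, Act z N0 w)
    (hn : ∀ g, Act z N0 g → ∀ w ∈ W, g * w * g⁻¹ ∈ W) : W ≤ N0 := by
  classical
  have : Fact (Nat.Prime 2) := ⟨Nat.prime_two⟩
  have hAH : ∀ g, Act z N0 g → g ∈ normalizer (P : Set G) := fun g hg => C.key ((act_iff C).1 hg)
  have hWH : W ≤ normalizer (P : Set G) := fun w hw => hAH w (hWA w hw)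
  -- the image in `S₆`
  have hD : ∀ d ∈ (W.subgroupOf (normalizer (P : Set G))).map ψ, d = 1 := by
    apply two_perm_six
    · exact (hW.of_equiv (subgroupOfEquivOfLe hWH).symm).map _
    · rintro a ha _ ⟨w, hw, rfl⟩
      obtain ⟨h, hh, rfl⟩ := C.even a (Perm.mem_alternatingGroup.1 ha)
      have hhA : Act z N0 (h : G) := act_of_comm hh
      refine ⟨h * w * h⁻¹, ?_, by rw [map_mul, map_mul, map_inv]⟩
      exact hn _ hhA _ hw
  have hker : ∀ w (hw : w ∈ W), ψ ⟨w, hWH hw⟩ = 1 := fun w hw => hD _ ⟨⟨w, hWH hw⟩, hw, rfl⟩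
  -- `N0 W` is a 2-subgroup of the kernel
  have hnN : N0 ≤ normalizer (W : Set G) := by
    intro a ha
    rw [mem_normalizer_iff]
    intro w
    constructor
    · exact hn a (act_N C ha) w
    · intro h1
      have h2 := hn a⁻¹ (act_N C (inv_mem ha)) _ h1
      have e : a⁻¹ * (a * w * a⁻¹) * a⁻¹⁻¹ = w := by group
      rwa [e] at h2
  have hsup : IsPGroup 2 (N0 ⊔ W : Subgroup G) := IsPGroup.to_sup_of_normal_right' C.N_two hW hnN
  have hsupH : N0 ⊔ W ≤ normalizer (P : Set G) := sup_le C.NH hWH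
  have hsupk : (N0 ⊔ W).subgroupOf (normalizer (P : Set G)) ≤ ψ.ker := by
    have h1 : N0 ⊔ W ≤ ψ.ker.map (normalizer (P : Set G)).subtype := by
      apply sup_le
      · intro a ha
        exact ⟨⟨a, C.NH ha⟩, C.psi_N a ha, rfl⟩
      · intro w hw
        exact ⟨⟨w, hWH hw⟩, hker w hw, rfl⟩
    rintro ⟨x, hx⟩ hx'
    obtain ⟨y, hy, hyx⟩ := h1 hx'
    have : y = ⟨x, hx⟩ := Subtype.ext hyx
    rw [← this]
    exact hy
  obtain ⟨m, hm, hcard⟩ := C.ker_card
  have h2 : Nat.card ↥(N0 ⊔ W) ∣ 64 * m := by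
    rw [← hcard, ← Nat.card_congr (subgroupOfEquivOfLe hsupH).toEquiv]
    exact card_dvd_of_le hsupk
  obtain ⟨k, hk⟩ := hsup.exists_card_eq
  have h3 : 2 ^ k ∣ 64 := by
    rw [hk] at h2
    exact (Nat.Coprime.pow_left k (Nat.coprime_two_left.2 hm)).dvd_of_dvd_mul_right h2
  have h4 : N0 = N0 ⊔ W := by
    apply Subgroup.eq_of_le_of_card_ge le_sup_left
    rw [hk, C.card]
    exact Nat.le_of_dvd (by norm_num) h3
  rw [h4]
  exact le_sup_right

/-- **The configuration `Conf` from `CB`.** -/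
theorem conf [Finite G] (C : CB P N0 z s ψ) : Conf z N0 where
  ord := orderOf_z C
  mem := C.PN C.zP
  card := C.card
  comm := fun a ha => act_N C ha
  sq := by
    intro a ha
    rcases C.sq a ha with h | h
    · rw [h]; exact one_mem _
    · rw [h]; exact mem_zpowers z
  kill := by
    intro W hW hWA hn c hc w hw
    exact hc w (le_N0 C hW hWA hn hw)

/-- elements of odd prime order of `C(N0)` -/
theorem exists_prime [Finite G] (C : CB P N0 z s ψ) {p : ℕ} (hp : p.Prime) (π : Equiv.Perm (Fin 6))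
    (hs : Equiv.Perm.sign π = 1) (ho : orderOf π = p) : ∃ y : G, orderOf y = p ∧ ∀ a ∈ N0, y * a = a * y := by
  obtain ⟨h, hh, hψ⟩ := C.even π hs
  have h1 : p ∣ orderOf (h : G) := by
    rw [Subgroup.orderOf_coe, ← ho, ← hψ]
    exact orderOf_map_dvd ψ h
  have h0 : orderOf (h : G) ≠ 0 := (orderOf_pos _).ne'
  refine ⟨(h : G) ^ (orderOf (h : G) / p), ?_, ?_⟩
  · exact orderOf_pow_orderOf_div h0 h1
  · intro a ha
    exact ((show Commute (h : G) a from hh a ha).pow_left _)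

theorem exists_five [Finite G] (C : CB P N0 z s ψ) : ∃ y : G, orderOf y = 5 ∧ ∀ a ∈ N0, y * a = a * y := by
  have : Fact (Nat.Prime 5) := ⟨by norm_num⟩
  refine exists_prime C (by norm_num) (c[0, 1, 2, 3, 4] : Equiv.Perm (Fin 6)) (by decide +kernel) ?_
  have h1 : (c[0, 1, 2, 3, 4] : Equiv.Perm (Fin 6)) ^ 5 = 1 := by decide +kernel
  exact orderOf_eq_prime h1 (by decide +kernel)

theorem exists_three [Finite G] (C : CB P N0 z s ψ) : ∃ y : G, orderOf y = 3 ∧ ∀ a ∈ N0, y * a = a * y := by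
  have : Fact (Nat.Prime 3) := ⟨by norm_num⟩
  refine exists_prime C (by norm_num) (c[0, 1, 2] : Equiv.Perm (Fin 6)) (by decide +kernel) ?_
  have h1 : (c[0, 1, 2] : Equiv.Perm (Fin 6)) ^ 3 = 1 := by decide +kernel
  exact orderOf_eq_prime h1 (by decide +kernel)

/-- `64` divides the order of the centralizer of an element of order 5 -/
theorem exists_five_dvd [Finite G] (C : CB P N0 z s ψ) :
    ∃ y : G, orderOf y = 5 ∧ 64 ∣ Nat.card ↥(centralizer ({y} : Set G)) := by
  obtain ⟨y, hy, hc⟩ := exists_five C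
  refine ⟨y, hy, ?_⟩
  rw [← C.card]
  apply card_dvd_of_le
  intro a ha
  rw [mem_centralizer_singleton_iff]
  exact (hc a ha).symm

/-- `2 ^ 10` divides the order of `G`, and of the centralizer of `z` -/
theorem dvd_card_cent [Finite G] (C : CB P N0 z s ψ) : 2 ^ 10 * 45 ∣ Nat.card ↥(centralizer ({z} : Set G)) := by
  have h1 : Nat.card ↥(normalizer (P : Set G)) = Nat.card ψ.ker * 720 := by
    have h2 := ψ.ker.card_mul_index
    rw [← h2, index_ker, MonoidHom.range_eq_top.2 C.surj, card_top]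
    congr 1
    rw [Nat.card_eq_fintype_card, Fintype.card_perm, Fintype.card_fin]
    rfl
  obtain ⟨m, -, hcard⟩ := C.ker_card
  have h3 : normalizer (P : Set G) ≤ centralizer ({z} : Set G) := by
    intro h hh
    rw [mem_centralizer_singleton_iff]
    exact C.z_cen h hh
  refine dvd_trans ?_ (card_dvd_of_le h3)
  rw [h1, hcard]
  exact ⟨m, by ring⟩

theorem dvd_card [Finite G] (C : CB P N0 z s ψ) : 2 ^ 10 * 45 ∣ Nat.card G :=
  (dvd_card_cent C).trans (Subgroup.card_subgroup_dvd_card _)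

end cb

/-- **No subgroup `K ∋ y` with a quotient in which the centralizer of the image of an element of `N0` is of characteristic
2**. -/
theorem Conf.kill_quot [Finite G] {z : G} {N0 : Subgroup G} (C : Conf z N0) {K : Subgroup G} {S : Type*} [Group S]
    (f : ↥K →* S) (hf : Function.Surjective f) (hker : IsPGroup 2 f.ker)
    (hK : ∀ g, Act z N0 g → ∀ k ∈ K, g * k * g⁻¹ ∈ K)
    (hKf : ∀ g (hg : Act z N0 g) (k : ↥K), f k = 1 → f ⟨g * k * g⁻¹, hK g hg k k.2⟩ = 1)
    (hz : ∀ h : z ∈ K, f ⟨z, h⟩ = 1) {n : G} (hn : n ∈ N0) (hnK : n ∈ K)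
    (hchar : IsOfCharacteristicTwo ↥(centralizer ({f ⟨n, hnK⟩} : Set S))) {y : G} (hy : y ∈ K) (hy1 : y ≠ 1)
    (ho : Odd (orderOf y)) (hyN : ∀ a ∈ N0, y * a = a * y) : False := by
  classical
  have : Fact (Nat.Prime 2) := ⟨Nat.prime_two⟩
  set Z := centralizer ({f ⟨n, hnK⟩} : Set S) with hZ
  have hcore : IsPGroup 2 ↥(pCore 2 ↥Z) := Lib.Cores.pCore_isPGroup 2
  have hcn : (pCore 2 ↥Z).Normal := Lib.Cores.pCore_normal 2
  have hchr : (pCore 2 ↥Z).Characteristic := Lib.Cores.pCore_characteristic 2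
  -- the induced automorphisms of `S`
  have hind : ∀ g, Act z N0 g → ∃ α : S ≃* S, ∀ (k : G) (hk : k ∈ K) (hk' : g * k * g⁻¹ ∈ K), α (f ⟨k, hk⟩) = f ⟨g * k * g⁻¹, hk'⟩ := by
    intro g hg
    have hg' : Act z N0 g⁻¹ := hg.inv C.ord C.mem
    let c : ↥K →* ↥K :=
      { toFun := fun k => ⟨g * k * g⁻¹, hK g hg k k.2⟩
        map_one' := by apply Subtype.ext; simp
        map_mul' := fun a b => by apply Subtype.ext; simp only [coe_mul]; group }
    let c' : ↥K →* ↥K :=
      { toFun := fun k => ⟨g⁻¹ * k * g⁻¹⁻¹, hK g⁻¹ hg' k k.2⟩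
        map_one' := by apply Subtype.ext; simp
        map_mul' := fun a b => by apply Subtype.ext; simp only [coe_mul]; group }
    have hcc : ∀ k, c' (c k) = k := fun k => Subtype.ext (by
      show g⁻¹ * (g * k * g⁻¹) * g⁻¹⁻¹ = k
      group)
    have hcc' : ∀ k, c (c' k) = k := fun k => Subtype.ext (by
      show g * (g⁻¹ * k * g⁻¹⁻¹) * g⁻¹ = k
      group)
    let a : S →* S := f.liftOfRightInverse (Function.surjInv hf) (Function.rightInverse_surjInv hf)
      ⟨f.comp c, by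
        intro k hk
        exact hKf g hg k hk⟩
    let b : S →* S := f.liftOfRightInverse (Function.surjInv hf) (Function.rightInverse_surjInv hf)
      ⟨f.comp c', by
        intro k hk
        exact hKf g⁻¹ hg' k hk⟩
    have ha : ∀ k, a (f k) = f (c k) := fun k =>
      MonoidHom.liftOfRightInverse_comp_apply f _ _ _ k
    have hb : ∀ k, b (f k) = f (c' k) := fun k =>
      MonoidHom.liftOfRightInverse_comp_apply f _ _ _ k
    refine ⟨{ toFun := a, invFun := b, left_inv := ?_, right_inv := ?_, map_mul' := map_mul a }, ?_⟩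
    · intro x
      obtain ⟨k, rfl⟩ := hf x
      rw [ha, hb, hcc]
    · intro x
      obtain ⟨k, rfl⟩ := hf x
      rw [hb, ha, hcc']
    · intro k hk hk'
      exact ha ⟨k, hk⟩
  -- `α` fixes `f n`
  have hfix : ∀ g (hg : Act z N0 g) (α : S ≃* S), (∀ (k : G) (hk : k ∈ K) (hk' : g * k * g⁻¹ ∈ K), α (f ⟨k, hk⟩) = f ⟨g * k * g⁻¹, hk'⟩) →
      α (f ⟨n, hnK⟩) = f ⟨n, hnK⟩ := by
    intro g hg α hα
    have h1 : g * n * g⁻¹ ∈ K := hK g hg n hnK
    rw [hα n hnK h1]
    rcases mem_zp C.ord (hg n hn) with h2 | h2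
    · rw [mul_inv_eq_one] at h2
      congr 1
      exact Subtype.ext h2
    · rw [mul_inv_eq_iff_eq_mul] at h2
      have hzK : z ∈ K := by
        have : z = g * n * g⁻¹ * n⁻¹ := by rw [h2]; group
        rw [this]
        exact mul_mem h1 (inv_mem hnK)
      have e : (⟨g * n * g⁻¹, h1⟩ : ↥K) = ⟨z, hzK⟩ * ⟨n, hnK⟩ := Subtype.ext h2
      rw [e, map_mul, hz hzK, one_mul]
  -- `M` and `Q`
  let M : Subgroup G := (Z.comap f).map K.subtype
  let Q : Subgroup G := (((pCore 2 ↥Z).map Z.subtype).comap f).map K.subtype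
  have hmemM : ∀ (k : G) (hk : k ∈ K), k ∈ M ↔ f ⟨k, hk⟩ ∈ Z := by
    intro k hk
    constructor
    · rintro ⟨x, hx, hxk⟩
      have : x = ⟨k, hk⟩ := Subtype.ext hxk
      rw [← this]; exact hx
    · intro h
      exact ⟨⟨k, hk⟩, h, rfl⟩
  have hmemQ : ∀ (k : G) (hk : k ∈ K), k ∈ Q ↔ f ⟨k, hk⟩ ∈ (pCore 2 ↥Z).map Z.subtype := by
    intro k hk
    constructor
    · rintro ⟨x, hx, hxk⟩
      have : x = ⟨k, hk⟩ := Subtype.ext hxk
      rw [← this]; exact hx
    · intro h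
      exact ⟨⟨k, hk⟩, h, rfl⟩
  have hMK : M ≤ K := map_subtype_le _
  have hQK : Q ≤ K := map_subtype_le _
  have hαZ : ∀ α : S ≃* S, α (f ⟨n, hnK⟩) = f ⟨n, hnK⟩ → Z.map α.toMonoidHom = Z := by
    intro α hα
    ext x
    rw [hZ, mem_centralizer_singleton_iff]
    constructor
    · rintro ⟨w, hw, rfl⟩
      have hw' := mem_centralizer_singleton_iff.1 hw
      have h1 := congrArg α hw'
      rw [map_mul, map_mul, hα] at h1
      exact h1
    · intro hx
      refine ⟨α.symm x, ?_, α.apply_symm_apply x⟩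
      rw [SetLike.mem_coe, mem_centralizer_singleton_iff]
      apply α.injective
      rw [map_mul, map_mul, hα, α.apply_symm_apply]
      exact hx
  have hαQ : ∀ α : S ≃* S, α (f ⟨n, hnK⟩) = f ⟨n, hnK⟩ → ∀ x ∈ (pCore 2 ↥Z).map Z.subtype,
      α x ∈ (pCore 2 ↥Z).map Z.subtype := by
    rintro α hα _ ⟨w, hw, rfl⟩
    have hmap := hαZ α hα
    let β : ↥Z ≃* ↥Z := (Z.equivMapOfInjective α.toMonoidHom α.injective).trans (MulEquiv.subgroupCongr hmap)
    refine ⟨β w, ?_, rfl⟩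
    have h1 := characteristic_iff_le_comap.1 hchr β hw
    exact h1
  refine hy1 (C.not_char2 (M := M) (Q := Q) ?_ ?_ ?_ ?_ ?_ hyN ho ?_)
  · intro g hg m hm
    obtain ⟨α, hα⟩ := hind g hg
    have hmK := hMK hm
    rw [hmemM _ (hK g hg m hmK), ← hα m hmK]
    have h1 := (hmemM m hmK).1 hm
    have h2 : α (f ⟨m, hmK⟩) ∈ Z.map α.toMonoidHom := ⟨_, h1, rfl⟩
    rwa [hαZ α (hfix g hg α hα)] at h2
  · -- `Q` is a 2-group
    apply IsPGroup.map
    exact IsPGroup.comap_of_ker_isPGroup (hcore.map _) f hker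
  · intro g hg w hw
    obtain ⟨α, hα⟩ := hind g hg
    have hwK := hQK hw
    rw [hmemQ _ (hK g hg w hwK), ← hα w hwK]
    exact hαQ α (hfix g hg α hα) _ ((hmemQ w hwK).1 hw)
  · intro m hm q hq
    have hmK := hMK hm
    have hqK := hQK hq
    rw [hmemQ _ (mul_mem (mul_mem hmK hqK) (inv_mem hmK))]
    have e : (⟨m * q * m⁻¹, mul_mem (mul_mem hmK hqK) (inv_mem hmK)⟩ : ↥K) = ⟨m, hmK⟩ * ⟨q, hqK⟩ * ⟨m, hmK⟩⁻¹ := rfl
    rw [e, map_mul, map_mul, map_inv]
    obtain ⟨w, hw, hwq⟩ := (hmemQ q hqK).1 hq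
    rw [← hwq]
    exact ⟨⟨f ⟨m, hmK⟩, (hmemM m hmK).1 hm⟩ * w * ⟨f ⟨m, hmK⟩, (hmemM m hmK).1 hm⟩⁻¹, hcn.conj_mem w hw _, rfl⟩
  · intro m hm hcomm
    have hmK := hMK hm
    rw [hmemQ _ hmK]
    have h1 : (⟨f ⟨m, hmK⟩, (hmemM m hmK).1 hm⟩ : ↥Z) ∈ centralizer (pCore 2 ↥Z : Set ↥Z) := by
      rw [mem_centralizer_iff]
      intro q hq
      obtain ⟨k, hk⟩ := hf (q : S)
      have hkQ : (k : G) ∈ Q := by
        rw [hmemQ _ k.2]
        exact ⟨q, hq, hk.symm⟩
      have h2 := hcomm k hkQ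
      apply Subtype.ext
      show (q : S) * f ⟨m, hmK⟩ = f ⟨m, hmK⟩ * q
      rw [← hk, ← map_mul, ← map_mul]
      congr 1
      exact Subtype.ext h2.symm
    exact ⟨_, hchar h1, rfl⟩
  · rw [hmemM y hy, hZ, mem_centralizer_singleton_iff, ← map_mul, ← map_mul]
    congr 1
    exact Subtype.ext (hyN n hn)

end Cfsg.Agent.H738.C3
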