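import Mathlib
import Cfsg.Agent.H738.C3.Tools
import Cfsg.Agent.H544.RV.Char2
import Cfsg.Agent.EvenType.ChevTwoTits
import Cfsg.Agent.EvenType.ChevTwoF4
import Cfsg.Agent.H527.Co3.Asm

/-!
# S1920, case B: the groups of characteristic 2 type (helper738)

`false_of_charTwo`, `false_of_lieTwo` (all groups of Lie type in characteristic 2), rows `sz`, `tf4`, `tits`.
-/

set_option autoImplicit false

open Subgroup Equiv Cfsg

universe u

namespace Cfsg.Agent.H738.C3

open Cfsg.Agent.H13.Co3

variable {G : Type u} [Group G]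
variable {P N0 : Subgroup G} {z s : G} {ψ : ↥(normalizer (P : Set G)) →* Equiv.Perm (Fin 6)}

theorem norm_zp {t : G} (ht : orderOf t = 2) : normalizer (zpowers t : Set G) = centralizer ({t} : Set G) := by
  ext g
  rw [mem_centralizer_singleton_iff, mem_normalizer_iff]
  have htt : t ≠ 1 := by
    rintro rfl
    rw [orderOf_one] at ht
    omega
  constructor
  · intro h
    have h1 := (h t).1 (mem_zpowers t)
    rcases mem_zp ht h1 with h2 | h2
    · exfalso
      rw [mul_inv_eq_one] at h2
      apply htt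
      simpa using h2
    · rwa [mul_inv_eq_iff_eq_mul] at h2
  · intro h x
    have hcomm : ∀ y ∈ zpowers t, g * y = y * g := by
      rintro _ ⟨k, rfl⟩
      exact (show Commute g t from h).zpow_right k
    constructor
    · intro hx
      rw [hcomm x hx, mul_inv_cancel_right]
      exact hx
    · intro hx
      have h1 := hcomm _ hx
      have h2 : g * x * g⁻¹ = x := by
        have h3 : g * (g * x * g⁻¹) * g⁻¹ = g * x * g⁻¹ := by rw [h1, mul_inv_cancel_right]
        have h4 : g * x * g⁻¹ = x := by
          have h5 := congrArg (fun a => g⁻¹ * a * g) h3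
          beta_reduce at h5
          have e1 : g⁻¹ * (g * (g * x * g⁻¹) * g⁻¹) * g = g * x * g⁻¹ := by group
          have e2 : g⁻¹ * (g * x * g⁻¹) * g = x := by group
          rw [e1, e2] at h5
          exact h5
        exact h4
      rw [h2] at hx
      exact hx

/-- **`C(z)` is not of characteristic 2**, from `CB` -/
theorem not_char2_centralizer [Finite G] (C : CB P N0 z s ψ) : ¬ IsOfCharacteristicTwo ↥(centralizer ({z} : Set G)) := by
  obtain ⟨y, hy, hc⟩ := exists_five C
  refine (conf C).not_char2_cent hc (by rw [hy]; decide) ?_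
  rintro rfl
  rw [orderOf_one] at hy
  omega

theorem false_of_charTwo [Finite G] (C : CB P N0 z s ψ) (h : IsCharacteristicTwoType G) : False := by
  apply not_char2_centralizer C
  have h1 : IsPGroup 2 (zpowers z) := by
    rw [IsPGroup.iff_card]
    exact ⟨1, by rw [Nat.card_zpowers, orderOf_z C, pow_one]⟩
  have h2 := h.2 (zpowers z) h1 (by
    intro h3
    apply C.z_ne
    rwa [zpowers_eq_bot] at h3)
  rw [norm_zp (orderOf_z C)] at h2
  exact h2

/-- **The groups of Lie type in characteristic 2** -/
theorem false_of_lieTwo [Finite G] [IsSimpleGroup G] (C : CB P N0 z s ψ) (h : IsLieTypeChar 2 G) : False := by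
  refine false_of_charTwo C (Cfsg.Agent.H544.RV.charTwo_of_lie ?_ h)
  by_contra hcon
  push Not at hcon
  exact Cfsg.Agent.H527.Co3.not_comm C hcon

open Cfsg.Agent.H527.Co3 in
theorem row_sz : Row.{u} @Lie.IsoSuzuki := by
  intro G _ _ _ h P N0 z s ψ C
  exact false_of_lieTwo C (Or.inr (Or.inr (Or.inr (Or.inr (Or.inr (Or.inr (Or.inr (Or.inr (Or.inl ⟨rfl, h⟩)))))))))

open Cfsg.Agent.H527.Co3 in
theorem row_tf4 : Row.{u} @Lie.Iso2F4 := by
  intro G _ _ _ h P N0 z s ψ C
  exact false_of_lieTwo C
    (Or.inr (Or.inr (Or.inr (Or.inr (Or.inr (Or.inr (Or.inr (Or.inr (Or.inr (Or.inl ⟨rfl, h⟩))))))))))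

open Cfsg.Agent.H527.Co3 in
theorem row_tits : Row.{u} @Lie.IsoTits := by
  intro G _ _ _ h P N0 z s ψ C
  exact false_of_charTwo C (Cfsg.Agent.EvenType.ChevTwoTits.charTwo h)

end Cfsg.Agent.H738.C3
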