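import Mathlib
import Cfsg.Agent.H738.C3.Setup
import Cfsg.Agent.H13.Co3.Def

/-!
# S1920: the reduction to case B (helper738)

`BD N z s φ` : the data in `B = H / O(H)`; `BD.even` : not case A, then `C_B(N)` covers `A₆`; `exists_CB`.
-/

set_option autoImplicit false

open Subgroup Equiv

universe u

namespace Cfsg.Agent.H738.C3

section bar

variable {B : Type*} [Group B]

/-- the data in `B = H / O(H)` -/
structure BD (N : Subgroup B) (z s : B) (φ : B →* Perm (Fin 6)) : Prop where
  two : IsPGroup 2 N
  card : Nat.card N = 64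
  sN : s ∈ N
  ss : s * s = z
  zz : z * z = 1
  z1 : z ≠ 1
  scen : ∀ n ∈ N, n * s = s * n
  sq : ∀ n ∈ N, n * n = 1 ∨ n * n = z
  comm : ∀ n ∈ N, ∀ m ∈ N, n * m = m * n ∨ n * m = z * (m * n)
  cen : ∀ n ∈ N, (∀ m ∈ N, n * m = m * n) → n ∈ zpowers s
  zc : ∀ b, b * z = z * b
  surj : Function.Surjective φ
  ker : ∀ b, φ b = 1 ↔ b ∈ N
  center : ∀ b, (∀ x, x * b = b * x) → b = 1 ∨ b = z

theorem mem_zp' {x z : B} (hz : z * z = 1) (h : x ∈ zpowers z) : x = 1 ∨ x = z := by
  obtain ⟨i, rfl⟩ := mem_zpowers_iff.1 h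
  have h2 : z ^ (2 : ℤ) = 1 := by rw [zpow_ofNat, pow_two, hz]
  rcases Int.even_or_odd i with ⟨j, rfl⟩ | ⟨j, rfl⟩
  · left
    rw [← two_mul, zpow_mul, h2, one_zpow]
  · right
    rw [zpow_add_one, zpow_mul, h2, one_zpow, one_mul]

theorem exists_BD [Finite B] (N : Subgroup B) [hN : N.Normal] (hN64 : Nat.card N = 64)
    (hNs : Cfsg.IsOfSymplecticType N) (hZN : IsCyclic (Subgroup.center N) ∧ Nat.card (Subgroup.center N) = 4)
    (e : B ⧸ N ≃* Perm (Fin 6)) (hZ : Nat.card (Subgroup.center B) = 2) :
    ∃ z s, BD N z s (e.toMonoidHom.comp (QuotientGroup.mk' N)) := by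
  classical
  obtain ⟨z, hzc, hzo, hcomm, hsq⟩ := Sym.sym hNs hZN.2
  have hzz : z * z = 1 := by
    have := pow_orderOf_eq_one z
    rwa [hzo, pow_two] at this
  have hz1 : z ≠ 1 := by
    rintro rfl
    rw [orderOf_one] at hzo
    omega
  -- the generator of the centre
  obtain ⟨s', hs'⟩ := hZN.1.exists_generator
  have hso' : orderOf s' = 4 := by
    rw [orderOf_eq_card_of_forall_mem_zpowers hs', hZN.2]
  set s : N := (s' : N) with hs
  have hso : orderOf s = 4 := by rw [hs, Subgroup.orderOf_coe, hso']
  have hsgen : ∀ x ∈ Subgroup.center N, x ∈ zpowers s := by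
    intro x hx
    obtain ⟨i, hi⟩ := mem_zpowers_iff.1 (hs' ⟨x, hx⟩)
    refine mem_zpowers_iff.2 ⟨i, ?_⟩
    have := congrArg Subtype.val hi
    simpa [hs] using this
  have hs4 : s * s * (s * s) = 1 := by
    have := pow_orderOf_eq_one s
    rwa [hso, Sym.pow4] at this
  have hss1 : s * s ≠ 1 := by
    intro h
    have h1 : orderOf s ∣ 2 := orderOf_dvd_of_pow_eq_one (by rw [pow_two]; exact h)
    rw [hso] at h1
    omega
  have hss : s * s = z := by
    rcases mem_zp' hzz (hsq s) with h | h
    · exact absurd h hss1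
    · exact h
  have hsc : ∀ n : N, n * s = s * n := fun n => mem_center_iff.1 s'.2 n
  -- `z` is central in `B`
  have hcharz : ∀ b : B, b * z = z * b := by
    intro b
    have h1 : ∀ n : N, (z : B) * n = n * z := fun n => congrArg Subtype.val (mem_center_iff.1 hzc n).symm
    have hm : b * z * b⁻¹ ∈ N := hN.conj_mem _ z.2 b
    have hc : (⟨b * z * b⁻¹, hm⟩ : N) ∈ Subgroup.center N := by
      rw [mem_center_iff]
      intro n
      apply Subtype.ext
      have h2 : b⁻¹ * (n : B) * b ∈ N := by
        have := hN.conj_mem _ n.2 b⁻¹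
        rwa [inv_inv] at this
      have h3 := h1 ⟨_, h2⟩
      change (n : B) * (b * z * b⁻¹) = (b * z * b⁻¹) * n
      have h4 : (z : B) * (b⁻¹ * (n : B) * b) = (b⁻¹ * (n : B) * b) * z := h3
      calc (n : B) * (b * z * b⁻¹) = b * ((b⁻¹ * (n : B) * b) * z) * b⁻¹ := by group
        _ = b * (z * (b⁻¹ * (n : B) * b)) * b⁻¹ := by rw [h4]
        _ = (b * z * b⁻¹) * n := by group
    have ho : (⟨b * z * b⁻¹, hm⟩ : N) * ⟨b * z * b⁻¹, hm⟩ = 1 := by
      apply Subtype.ext
      change b * z * b⁻¹ * (b * z * b⁻¹) = 1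
      have h5 : (z : B) * z = 1 := congrArg Subtype.val hzz
      calc b * z * b⁻¹ * (b * z * b⁻¹) = b * (z * z) * b⁻¹ := by group
        _ = 1 := by rw [h5]; group
    have h1' : (⟨b * z * b⁻¹, hm⟩ : N) ≠ 1 := by
      intro h
      have h2 : b * z * b⁻¹ = 1 := congrArg Subtype.val h
      rw [mul_inv_eq_one] at h2
      have h3 : (z : B) = 1 := by simpa using h2
      exact hz1 (Subtype.ext h3)
    -- it is a power of `s`
    obtain ⟨i, hi⟩ := mem_zpowers_iff.1 (hsgen _ hc)
    have h6 : (⟨b * z * b⁻¹, hm⟩ : N) = z := by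
      rcases Int.even_or_odd i with ⟨j, rfl⟩ | ⟨j, rfl⟩
      · rw [← two_mul, zpow_mul] at hi
        have h7 : s ^ (2 : ℤ) = z := by rw [zpow_ofNat, pow_two, hss]
        rw [h7] at hi
        rcases mem_zp' hzz (mem_zpowers_iff.2 ⟨j, hi⟩) with h8 | h8
        · exact absurd h8 h1'
        · exact h8
      · exfalso
        rw [← hi] at ho
        have h9 : s ^ (2 * j + 1) * s ^ (2 * j + 1) = s ^ (4 * j) * (s * s) := by
          rw [← zpow_add, ← pow_two, ← zpow_natCast s 2, ← zpow_add]
          congr 1
          push_cast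
          ring
        rw [h9] at ho
        have h10 : s ^ (4 * j) = 1 := by
          rw [zpow_mul]
          have : s ^ (4 : ℤ) = 1 := by rw [zpow_ofNat, Sym.pow4, hs4]
          rw [this, one_zpow]
        rw [h10, one_mul] at ho
        exact hss1 ho
    have h7 : b * z * b⁻¹ = z := congrArg Subtype.val h6
    rwa [mul_inv_eq_iff_eq_mul] at h7
  have hzB : (z : B) * z = 1 := congrArg Subtype.val hzz
  have hzB1 : (z : B) ≠ 1 := fun h => hz1 (Subtype.ext h)
  refine ⟨z, s, ?_⟩
  constructor
  · exact hNs.1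
  · exact hN64
  · exact s.2
  · exact congrArg Subtype.val hss
  · exact hzB
  · exact hzB1
  · intro n hn
    exact congrArg Subtype.val (hsc ⟨n, hn⟩)
  · intro n hn
    rcases mem_zp' hzz (hsq ⟨n, hn⟩) with h | h
    · left; exact congrArg Subtype.val h
    · right; exact congrArg Subtype.val h
  · intro n hn m hm
    rcases mem_zp' hzz (hcomm ⟨n, hn⟩ ⟨m, hm⟩) with h | h
    · left
      rw [mul_inv_eq_one, mul_inv_eq_iff_eq_mul] at h
      exact congrArg Subtype.val h
    · right
      rw [mul_inv_eq_iff_eq_mul, mul_inv_eq_iff_eq_mul, mul_assoc] at h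
      exact congrArg Subtype.val h
  · intro n hn h
    have h1 : (⟨n, hn⟩ : N) ∈ Subgroup.center N := by
      rw [mem_center_iff]
      intro m
      exact Subtype.ext (h m m.2).symm
    obtain ⟨i, hi⟩ := mem_zpowers_iff.1 (hsgen _ h1)
    refine mem_zpowers_iff.2 ⟨i, ?_⟩
    have := congrArg Subtype.val hi
    simpa using this
  · exact hcharz
  · exact e.surjective.comp (QuotientGroup.mk'_surjective N)
  · intro b
    rw [MonoidHom.comp_apply, MulEquiv.coe_toMonoidHom, map_eq_one_iff e e.injective]
    exact QuotientGroup.eq_one_iff b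
  · intro b hb
    have h1 : b ∈ Subgroup.center B := mem_center_iff.2 hb
    have h2 : (z : B) ∈ Subgroup.center B := mem_center_iff.2 hcharz
    by_contra hcon
    push Not at hcon
    -- three elements in a group of order two
    have h3 : (⟨b, h1⟩ : Subgroup.center B) ^ 2 = 1 := by rw [← hZ]; exact pow_card_eq_one'
    have h4 : orderOf (⟨z, h2⟩ : Subgroup.center B) = 2 := by
      apply orderOf_eq_prime
      · apply Subtype.ext
        change (z : B) ^ 2 = 1
        rw [pow_two, hzB]
      · intro h
        exact hzB1 (congrArg Subtype.val h)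
    have h5 : zpowers (⟨z, h2⟩ : Subgroup.center B) = ⊤ := by
      rw [← card_eq_iff_eq_top, Nat.card_zpowers, h4, hZ]
    have h6 : (⟨b, h1⟩ : Subgroup.center B) ∈ zpowers (⟨z, h2⟩ : Subgroup.center B) := by rw [h5]; exact mem_top _
    rcases mem_zp' (Subtype.ext hzB) h6 with h7 | h7
    · exact hcon.1 (congrArg Subtype.val h7)
    · exact hcon.2 (congrArg Subtype.val h7)

namespace BD

variable {N : Subgroup B} {z s : B} {φ : B →* Perm (Fin 6)}

/-- a normal subgroup of `B` whose image contains an element `≠ 1` contains `A₆` -/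
theorem image_ge (D : BD N z s φ) {K : Subgroup B} (hK : K.Normal) {k : B} (hk : k ∈ K) (hk1 : φ k ≠ 1) :
    alternatingGroup (Fin 6) ≤ K.map φ := by
  have hn : (K.map φ).Normal := hK.map φ D.surj
  apply Perm.alternatingGroup_le_of_normal (by simp)
  refine ⟨⟨φ k, mem_map_of_mem φ hk⟩, 1, ?_⟩
  intro h
  exact hk1 (congrArg Subtype.val h)

/-- **Not case A: `C_B(N)` covers `A₆`** -/
theorem even [hN : N.Normal] (D : BD N z s φ) (hA : ∃ b, b ∉ N ∧ ∀ n ∈ N, b * n * b⁻¹ * n⁻¹ ∈ zpowers z) (π : Perm (Fin 6))
    (hπ : π ∈ alternatingGroup (Fin 6)) : ∃ b, (∀ n ∈ N, b * n = n * b) ∧ φ b = π := by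
  classical
  -- `Kb`
  have hmem : ∀ b n : B, b * n * b⁻¹ * n⁻¹ ∈ zpowers z ↔ (b * n = n * b ∨ b * n = z * (n * b)) := by
    intro b n
    constructor
    · intro h
      rcases mem_zp' D.zz h with h1 | h1
      · left
        rw [mul_inv_eq_one, mul_inv_eq_iff_eq_mul] at h1
        exact h1
      · right
        rw [mul_inv_eq_iff_eq_mul, mul_inv_eq_iff_eq_mul] at h1
        rw [h1, mul_assoc]
    · rintro (h | h)
      · rw [h, mul_inv_cancel_right, mul_inv_cancel]
        exact one_mem _
      · rw [h]
        have e : z * (n * b) * b⁻¹ * n⁻¹ = z := by group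
        rw [e]
        exact mem_zpowers z
  let Kb : Subgroup B :=
    { carrier := {b | ∀ n ∈ N, b * n = n * b ∨ b * n = z * (n * b)}
      one_mem' := fun n _ => Or.inl (by rw [one_mul, mul_one])
      mul_mem' := by
        intro a b ha hb n hn
        rcases hb n hn with h | h
        · rcases ha n hn with h' | h'
          · left
            rw [mul_assoc, h, ← mul_assoc, h', mul_assoc]
          · right
            rw [mul_assoc, h, ← mul_assoc, h', mul_assoc, mul_assoc]
        · rcases ha n hn with h' | h'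
          · right
            calc a * b * n = a * (b * n) := mul_assoc _ _ _
              _ = a * (z * (n * b)) := by rw [h]
              _ = (a * z) * (n * b) := by group
              _ = (z * a) * (n * b) := by rw [D.zc]
              _ = z * (a * n) * b := by group
              _ = z * (n * a) * b := by rw [h']
              _ = z * (n * (a * b)) := by group
          · left
            calc a * b * n = a * (b * n) := mul_assoc _ _ _
              _ = a * (z * (n * b)) := by rw [h]
              _ = (a * z) * (n * b) := by group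
              _ = (z * a) * (n * b) := by rw [D.zc]
              _ = z * (a * n) * b := by group
              _ = z * (z * (n * a)) * b := by rw [h']
              _ = (z * z) * (n * (a * b)) := by group
              _ = n * (a * b) := by rw [D.zz, one_mul]
      inv_mem' := by
        intro a ha n hn
        rcases ha n hn with h | h
        · left
          rw [inv_mul_eq_iff_eq_mul, ← mul_assoc, h, mul_inv_cancel_right]
        · right
          rw [inv_mul_eq_iff_eq_mul]
          calc n = n * a * a⁻¹ := by group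
            _ = (z * z) * (n * a) * a⁻¹ := by rw [D.zz, one_mul]
            _ = z * (z * (n * a)) * a⁻¹ := by group
            _ = z * (a * n) * a⁻¹ := by rw [h]
            _ = (z * a) * (n * a⁻¹) := by group
            _ = (a * z) * (n * a⁻¹) := by rw [D.zc]
            _ = a * (z * (n * a⁻¹)) := by group }
  have hKb : Kb.Normal := by
    constructor
    intro b hb x n hn
    have hm : x⁻¹ * n * x ∈ N := by
      have := hN.conj_mem _ hn x⁻¹
      rwa [inv_inv] at this
    rcases hb _ hm with h | h
    · left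
      calc x * b * x⁻¹ * n = x * (b * (x⁻¹ * n * x)) * x⁻¹ := by group
        _ = x * ((x⁻¹ * n * x) * b) * x⁻¹ := by rw [h]
        _ = n * (x * b * x⁻¹) := by group
    · right
      calc x * b * x⁻¹ * n = x * (b * (x⁻¹ * n * x)) * x⁻¹ := by group
        _ = x * (z * ((x⁻¹ * n * x) * b)) * x⁻¹ := by rw [h]
        _ = (x * z) * ((x⁻¹ * n * x) * b) * x⁻¹ := by group
        _ = (z * x) * ((x⁻¹ * n * x) * b) * x⁻¹ := by rw [D.zc]
        _ = z * (n * (x * b * x⁻¹)) := by group
  let Cb : Subgroup B := centralizer (N : Set B)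
  have hCb : Cb.Normal := inferInstance
  have hsqC : ∀ k ∈ Kb, k * k ∈ Cb := by
    intro k hk
    rw [mem_centralizer_iff]
    intro n hn
    rcases hk n hn with h | h
    · calc n * (k * k) = (n * k) * k := by group
        _ = (k * n) * k := by rw [h]
        _ = k * (n * k) := by group
        _ = k * (k * n) := by rw [h]
        _ = k * k * n := by group
    · have h' : n * k = z * (k * n) := by
        rw [h, ← mul_assoc, D.zz, one_mul]
      calc n * (k * k) = (n * k) * k := by group
        _ = z * (k * n) * k := by rw [h']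
        _ = z * k * (n * k) := by group
        _ = z * k * (z * (k * n)) := by rw [h']
        _ = z * (k * z) * (k * n) := by group
        _ = z * (z * k) * (k * n) := by rw [D.zc]
        _ = (z * z) * (k * k * n) := by group
        _ = k * k * n := by rw [D.zz, one_mul]
  obtain ⟨b, hbN, hb⟩ := hA
  have hbK : b ∈ Kb := fun n hn => (hmem b n).1 (hb n hn)
  have h1 := D.image_ge hKb hbK (fun h => hbN ((D.ker b).1 h))
  -- a 3-cycle
  have h2 : (c[0, 1, 2] : Perm (Fin 6)) ∈ alternatingGroup (Fin 6) := by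
    rw [Perm.mem_alternatingGroup]
    decide +kernel
  obtain ⟨k, hk, hkφ⟩ := h1 h2
  have h3 : φ (k * k) ≠ 1 := by
    rw [map_mul, hkφ]
    decide +kernel
  have h4 := D.image_ge hCb (hsqC k hk) h3
  obtain ⟨c, hc, hcφ⟩ := h4 hπ
  refine ⟨c, ?_, hcφ⟩
  intro n hn
  exact (mem_centralizer_iff.1 hc n hn).symm

theorem s_ne (D : BD N z s φ) : s ≠ 1 ∧ s ≠ z := by
  constructor
  · rintro rfl
    exact D.z1 (by rw [← D.ss, one_mul])
  · intro h
    apply D.z1
    have h1 : s * s = 1 := by rw [h]; exact D.zz
    rw [← D.ss, h1]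

/-- **Parity** -/
theorem parity [hN : N.Normal] (D : BD N z s φ) (hA : ∃ b, b ∉ N ∧ ∀ n ∈ N, b * n * b⁻¹ * n⁻¹ ∈ zpowers z) (b : B) :
    φ b ∈ alternatingGroup (Fin 6) ↔ b * s = s * b := by
  -- elements with an even image
  have h1 : ∀ b : B, φ b ∈ alternatingGroup (Fin 6) → b * s = s * b := by
    intro b hb
    obtain ⟨c, hc, hcφ⟩ := D.even hA _ hb
    have h2 : b * c⁻¹ ∈ N := by
      rw [← D.ker, map_mul, map_inv, hcφ, mul_inv_cancel]
    have h3 := D.scen _ h2
    have h4 := hc s D.sN
    calc b * s = (b * c⁻¹) * (c * s) := by group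
      _ = (b * c⁻¹) * (s * c) := by rw [h4]
      _ = ((b * c⁻¹) * s) * c := by group
      _ = (s * (b * c⁻¹)) * c := by rw [h3]
      _ = s * b := by group
  refine ⟨h1 b, ?_⟩
  intro hb
  by_contra hodd
  -- `s` is central in `B`
  have h2 : ∀ x : B, x * s = s * x := by
    intro x
    by_cases hx : φ x ∈ alternatingGroup (Fin 6)
    · exact h1 x hx
    · have h3 : φ (x * b) ∈ alternatingGroup (Fin 6) := by
        rw [map_mul, Perm.mem_alternatingGroup, map_mul]
        rw [Perm.mem_alternatingGroup] at hodd hx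
        rcases Int.units_eq_one_or (Perm.sign (φ x)) with h | h
        · exact absurd h hx
        · rcases Int.units_eq_one_or (Perm.sign (φ b)) with h' | h'
          · exact absurd h' hodd
          · rw [h, h']; decide
      have h4 := h1 _ h3
      calc x * s = (x * (b * s)) * b⁻¹ := by rw [hb]; group
        _ = (x * b * s) * b⁻¹ := by group
        _ = (s * (x * b)) * b⁻¹ := by rw [h4]
        _ = s * x := by group
  rcases D.center s h2 with h3 | h3
  · exact D.s_ne.1 h3
  · exact D.s_ne.2 h3

end BD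

end bar

end Cfsg.Agent.H738.C3
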