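import Mathlib
import Cfsg.Agent.H738.C3.Char2Rows
import Cfsg.Agent.OddHalf.Small.M24Char
import Cfsg.Agent.SevenCases.SporTh
import Cfsg.Agent.SevenCases.SporCo2
import Cfsg.Agent.SevenCases.SporJ4

/-!
# S1920, case B: the sporadic groups of characteristic 2 type (helper738)
-/

set_option autoImplicit false

open Subgroup Equiv Cfsg

universe u

namespace Cfsg.Agent.H738.C3

open Cfsg.Agent.H13.Co3

variable {G : Type u} [Group G] [Finite G]
variable {P N0 : Subgroup G} {z s : G} {ψ : ↥(normalizer (P : Set G)) →* Equiv.Perm (Fin 6)}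

theorem row_m24 (h : Spor.IsoM24 G) (C : CB P N0 z s ψ) : False :=
  false_of_charTwo C (Cfsg.Agent.OddHalf.Small.M24Char.m24 h)

theorem row_th (h : Spor.IsoTh G) (C : CB P N0 z s ψ) : False :=
  false_of_charTwo C (Cfsg.Agent.SevenCases.SporTh.charTwo h)

theorem row_co2 (h : Spor.IsoCo2 G) (C : CB P N0 z s ψ) : False :=
  false_of_charTwo C (Cfsg.Agent.SevenCases.SporCo2.charTwo h)

theorem row_j4 (h : Spor.IsoJ4 G) (C : CB P N0 z s ψ) : False :=
  false_of_charTwo C (Cfsg.Agent.SevenCases.SporJ4.charTwo h)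

end Cfsg.Agent.H738.C3
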