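import Mathlib
import Cfsg.Agent.H738.C3.Tools
import Cfsg.Agent.H895.Pron.SuzX5
import Cfsg.Agent.CpAutRuFive.Main
import Cfsg.Agent.BpSpor.CoThreeFive
import Cfsg.Agent.CpAut.SmallP.TwoPart
import Cfsg.Agent.H559.FiSpec
import Cfsg.Agent.H841.PB.FiTwentyThreeA

/-!
# S1920, case B: the sporadic groups in which `64` does not divide the orders of the centralizers of elements of order 5
(helper738)
-/

set_option autoImplicit false

open Subgroup Equiv Cfsg

universe u

namespace Cfsg.Agent.H738.C3

open Cfsg.Agent.H13.Co3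

variable {G : Type u} [Group G] [Finite G]
variable {P N0 : Subgroup G} {z s : G} {ψ : ↥(normalizer (P : Set G)) →* Equiv.Perm (Fin 6)}

/-- the order of the centralizer, along an isomorphism -/
theorem card_cent_equiv {X : Type*} [Group X] (e : G ≃* X) (y : G) :
    Nat.card ↥(centralizer ({e y} : Set X)) = Nat.card ↥(centralizer ({y} : Set G)) := by
  have h : (centralizer ({y} : Set G)).map e.toMonoidHom = centralizer ({e y} : Set X) := by
    ext x
    rw [mem_centralizer_singleton_iff]
    constructor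
    · rintro ⟨w, hw, rfl⟩
      have hw' := mem_centralizer_singleton_iff.1 hw
      have h1 := congrArg e hw'
      rw [map_mul, map_mul] at h1
      exact h1
    · intro hx
      refine ⟨e.symm x, ?_, e.apply_symm_apply x⟩
      rw [SetLike.mem_coe, mem_centralizer_singleton_iff]
      apply e.injective
      rw [map_mul, map_mul, e.apply_symm_apply]
      exact hx
  rw [← h]
  exact (Nat.card_congr ((centralizer ({y} : Set G)).equivMapOfInjective e.toMonoidHom e.injective).toEquiv).symm

theorem of_five {X : Type*} [Group X] (e : G ≃* X)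
    (h : ∀ x : X, orderOf x = 5 → ¬ 64 ∣ Nat.card ↥(centralizer ({x} : Set X))) (C : CB P N0 z s ψ) : False := by
  obtain ⟨y, hy, hd⟩ := exists_five_dvd C
  apply h (e y) (by rw [e.orderOf_eq, hy])
  rwa [card_cent_equiv]

theorem row_he (h : Spor.IsoHe G) (C : CB P N0 z s ψ) : False := by
  obtain ⟨y, hy, hd⟩ := exists_five_dvd C
  exact Cfsg.Agent.CpAut.SmallP.He.not_eight_five h hy (dvd_trans (by norm_num) hd)

theorem row_suz (h : Spor.IsoSuz G) (C : CB P N0 z s ψ) : False := by
  obtain ⟨e⟩ := h
  refine of_five e (fun x hx => ?_) C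
  exact Cfsg.Agent.H895.Pron.SuzX5.not_64 hx

theorem row_ru (h : Spor.IsoRu G) (C : CB P N0 z s ψ) : False := by
  obtain ⟨e⟩ := h
  refine of_five (e.trans RuLat.Main.equiv) (fun x hx => ?_) C
  exact Cfsg.Agent.CpAutRuFive.not_dvd hx

theorem row_co3 (h : Spor.IsoCo3 G) (C : CB P N0 z s ψ) : False := by
  obtain ⟨e⟩ := h
  exact of_five e (fun x hx => Cfsg.Agent.BpSpor.CoThreeFive.not_dvd_co3 hx) C

theorem row_fi22 (h : Spor.IsoFi22 G) (C : CB P N0 z s ψ) : False := by
  obtain ⟨y, hy, hd⟩ := exists_five_dvd C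
  rw [Cfsg.Agent.H559.FiSpec.cent5 h hy] at hd
  revert hd
  decide

theorem row_fi23 (h : Spor.IsoFi23 G) (C : CB P N0 z s ψ) : False := by
  obtain ⟨e⟩ := h
  refine of_five e (fun x hx => ?_) C
  rw [Cfsg.Agent.H841.PB.FiTwentyThree.card_cent_five hx]
  decide

end Cfsg.Agent.H738.C3
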