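import Mathlib
import Cfsg.Agent.H738.C3.SporOrd
import Cfsg.Agent.H738.C3.SporC2
import Cfsg.Agent.H738.C3.SporFive
import Cfsg.Agent.H527.Co3.Asm

/-!
# S1920, case B: assembly of the sporadic rows (helper738)
-/

set_option autoImplicit false

open Subgroup Equiv Cfsg

universe u

namespace Cfsg.Agent.H738.C3

open Cfsg.Agent.H13.Co3 Cfsg.Agent.H527.Co3

/-- **The sporadic rows**, from the rows of Co₁, Fi₂₄', HN, B, M -/
theorem row_spor_of (co1 : Row.{u} @Spor.IsoCo1) (fi24 : Row.{u} @Spor.IsoFi24') (hn : Row.{u} @Spor.IsoHN)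
    (b : Row.{u} @Spor.IsoB) (m : Row.{u} @Spor.IsoM) : Row.{u} @IsSporadicGroup := by
  intro G _ _ _ h P N0 z s ψ C
  rcases h with h | h | h | h | h | h | h | h | h | h | h | h | h | h | h | h | h | h | h | h | h | h | h | h | h | h
  all_goals first
    | exact row_m11 h C | exact row_m12 h C | exact row_m22 h C | exact row_m23 h C | exact row_m24 h C
    | exact row_j1 h C | exact row_j2 h C | exact row_j3 h C | exact row_j4 h C | exact row_hs h C | exact row_he h C
    | exact row_mcl h C | exact row_suz h C | exact row_ly h C | exact row_on h C | exact row_ru h C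
    | exact row_co2 h C | exact row_co3 h C | exact row_fi22 h C | exact row_fi23 h C | exact row_th h C
    | exact co1 G h _ _ _ _ _ C | exact fi24 G h _ _ _ _ _ C | exact hn G h _ _ _ _ _ C
    | exact b G h _ _ _ _ _ C | exact m G h _ _ _ _ _ C

end Cfsg.Agent.H738.C3
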