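import Mathlib
import Cfsg.Agent.H738.C3.SporAll
import Cfsg.Agent.H444.Co1CB
import Cfsg.Agent.H282.Co3.Fi24
import Cfsg.Agent.H748.Co3.RowHN
import Cfsg.Agent.H877.C3.Rows

/-!
# S1920, case B: the sporadic row, final form (helper738)
-/

set_option autoImplicit false

open Subgroup Equiv Cfsg

universe u

namespace Cfsg.Agent.H738.C3

open Cfsg.Agent.H13.Co3 Cfsg.Agent.H527.Co3

/-- **The row of the 26 sporadic groups** -/
theorem row_spor : Row.{u} @IsSporadicGroup := by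
  refine row_spor_of ?_ ?_ ?_ ?_ ?_
  · intro G _ _ _ h P N0 z s ψ C
    exact Cfsg.Agent.H444.Co1CB.row_Co1 h C
  · intro G _ _ _ h P N0 z s ψ C
    exact Cfsg.Agent.H282.Co3.row_Fi24p h C
  · intro G _ _ _ h P N0 z s ψ C
    exact Cfsg.Agent.H748.Co3.row_HN h C
  · intro G _ _ _ h P N0 z s ψ C
    exact Cfsg.Agent.H877.C3.row_B h C
  · intro G _ _ _ h P N0 z s ψ C
    exact Cfsg.Agent.H877.C3.row_M h C

end Cfsg.Agent.H738.C3
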